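import Cfsg.Agent.Lib.RootChain.DataE8

/-! The chain of root subsystems below E7 in type E8. -/

set_option autoImplicit false
set_option maxRecDepth 100000

namespace CfsgLib.RootChain.E8

/-- The next roots of step 1. -/
def sub1 : List ℕ := [35, 45, 51, 54, 55, 61, 64, 65, 68, 69, 70, 73, 74, 75, 76, 77, 83, 86, 87, 90, 91, 92, 95, 96, 97, 98, 101, 102, 103, 104, 107, 108, 109, 112, 113, 116, 123, 126, 127, 130, 131, 132, 135, 136, 137, 138, 141, 142, 143, 144, 147, 148, 149, 152, 153, 156, 162, 163, 164, 165, 166, 169, 170, 171, 174, 175, 178, 184, 185, 188, 194, 204]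

/-- The radical of step 1. -/
def rad1 : List ℕ := [226, 219, 214, 210, 207, 205, 200, 197, 195, 191, 189, 186, 181, 179, 176, 172, 167, 159, 157, 154, 150, 145, 139, 133, 128, 124, 121]

/-- The generation certificate. -/
def reach1 : List (ℕ × ℕ × ℕ) := [(162, 20, 226), (163, 25, 226), (164, 29, 226), (165, 32, 226), (166, 34, 226), (169, 39, 226), (170, 42, 226), (171, 44, 226), (174, 48, 226), (175, 50, 226), (178, 53, 226), (184, 58, 226), (185, 60, 226), (188, 63, 226), (194, 67, 226), (204, 72, 226), (77, 13, 219), (135, 25, 219), (136, 29, 219), (137, 32, 219), (138, 34, 219), (147, 39, 219), (148, 42, 219), (149, 44, 219), (152, 48, 219), (153, 50, 219), (156, 53, 219), (76, 13, 214), (104, 20, 214), (130, 29, 214), (131, 32, 214), (132, 34, 214), (142, 39, 214), (143, 42, 214), (144, 44, 214), (75, 13, 210), (103, 20, 210), (109, 25, 210), (126, 32, 210), (127, 34, 210), (141, 39, 210), (74, 13, 207), (102, 20, 207), (108, 25, 207), (113, 29, 207), (123, 34, 207), (73, 13,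 205), (101, 20, 205), (107, 25, 205), (112, 29, 205), (116, 32, 205), (70, 13, 200), (92, 20, 200), (97, 25, 200), (98, 29, 200), (69, 13, 197), (91, 20, 197), (96, 25, 197), (68, 13, 195), (90, 20, 195), (95, 25, 195), (65, 13, 191), (87, 20, 191), (64, 13, 189), (86, 20, 189), (61, 13, 186), (83, 20, 186), (55, 13, 181), (54, 13, 179), (51, 13, 176), (45, 13, 172), (35, 13, 167), (20, 13, 162), (80, 58, 162), (82, 60, 162), (85, 63, 162), (89, 67, 162), (100, 72, 162), (25, 13, 163), (94, 67, 163), (106, 72, 163), (29, 13, 164), (111, 72, 164), (32, 13, 165), (115, 72, 165), (34, 13, 166), (118, 72, 166), (39, 13, 169), (42, 13, 170), (44, 13, 171), (48, 13, 174), (50, 13, 175), (53, 13, 178), (58, 13, 184), (60, 13, 185), (63, 13, 188), (67, 13, 194), (72, 13, 204), (13, 20, 77)]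

theorem base1 : baseB T1 sub0 sub1 rad1 16 reach1 = true := by decide +kernel

theorem trace1 : traceB T1 sub0 sub1 rad1 16 204 [(204, 72, 167)] = true := by decide +kernel

theorem fix1 : fixAll T1 sub1 rad1 204 = true := by decide +kernel

theorem cells1 (q : ℕ) : cellsTotal T1 sub1 rad1 q = (q ^ 16 + q ^ 15 + q ^ 14 + q ^ 13 + q ^ 12 + q ^ 11 + q ^ 12 + q ^ 11 + q ^ 10 + q ^ 10 + q ^ 9 + q ^ 8 + q ^ 9 + q ^ 8 + q ^ 7 + q ^ 6 + q ^ 5 + q ^ 8 + q ^ 7 + q ^ 6 + q ^ 5 + q ^ 4 + q ^ 4 + q ^ 3 + q ^ 2 + q ^ 1 + q ^ 0) * (q - 1) := by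
  have he : (List.ofFn fun μ => ell T1 sub1 rad1 μ) = [16, 15, 14, 13, 12, 11, 12, 11, 10, 10, 9, 8, 9, 8, 7, 6, 5, 8, 7, 6, 5, 4, 4, 3, 2, 1, 0] := by decide +kernel
  rw [cellsTotal, ← Finset.sum_mul, ← List.sum_ofFn (f := fun μ => q ^ ell T1 sub1 rad1 μ),
    show (List.ofFn fun μ => q ^ ell T1 sub1 rad1 μ) =
      (List.ofFn fun μ => ell T1 sub1 rad1 μ).map (q ^ ·) from List.map_ofFn.symm, he]
  simp only [List.map_cons, List.map_nil, List.sum_cons, List.sum_nil, Nat.add_zero, ← add_assoc]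

/-- The next roots of step 2. -/
def sub2 : List ℕ := [83, 86, 87, 90, 91, 92, 95, 96, 97, 98, 101, 102, 103, 104, 107, 108, 109, 112, 113, 116, 123, 126, 127, 130, 131, 132, 135, 136, 137, 138, 141, 142, 143, 144, 147, 148, 149, 152, 153, 156]

/-- The radical of step 2. -/
def rad2 : List ℕ := [204, 194, 188, 185, 184, 178, 175, 174, 171, 170, 169, 166, 165, 164, 163, 162]

/-- The generation certificate. -/
def reach2 : List (ℕ × ℕ × ℕ) := [(141, 45, 204), (142, 51, 204), (143, 54, 204), (144, 55, 204), (147, 61, 204), (148, 64, 204), (149, 65, 204), (152, 68, 204), (153, 69, 204), (156, 70, 204), (98, 35, 194), (130, 51, 194), (131, 54, 194), (132, 55, 194), (136, 61, 194), (137, 64, 194), (138, 65, 194), (97, 35, 188), (109, 45, 188), (126, 54, 188), (127, 55, 188), (135, 61, 188), (96, 35, 185), (108, 45, 185), (113, 51, 185), (123, 55, 185), (95, 35, 184), (107, 45, 184), (112, 51, 184), (116, 54, 184), (92, 35, 178), (103, 45, 178), (104, 51, 178), (91, 35, 175), (102, 45,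 175), (90, 35, 174), (101, 45, 174), (87, 35, 171), (86, 35, 170), (83, 35, 169), (45, 35, 141), (73, 68, 141), (74, 69, 141), (75, 70, 141), (51, 35, 142), (76, 70, 142), (54, 35, 143), (55, 35, 144), (61, 35, 147), (77, 70, 147), (64, 35, 148), (65, 35, 149), (68, 35, 152), (69, 35, 153), (70, 35, 156), (35, 45, 98)]

theorem base2 : baseB T1 sub1 sub2 rad2 10 reach2 = true := by decide +kernel

theorem trace2 : traceB T1 sub1 sub2 rad2 10 156 [(156, 70, 169)] = true := by decide +kernel

theorem fix2 : fixAll T1 sub2 rad2 156 = true := by decide +kernel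

theorem cells2 (q : ℕ) : cellsTotal T1 sub2 rad2 q = (q ^ 10 + q ^ 9 + q ^ 8 + q ^ 7 + q ^ 6 + q ^ 7 + q ^ 6 + q ^ 5 + q ^ 5 + q ^ 4 + q ^ 3 + q ^ 4 + q ^ 3 + q ^ 2 + q ^ 1 + q ^ 0) * (q - 1) := by
  have he : (List.ofFn fun μ => ell T1 sub2 rad2 μ) = [10, 9, 8, 7, 6, 7, 6, 5, 5, 4, 3, 4, 3, 2, 1, 0] := by decide +kernel
  rw [cellsTotal, ← Finset.sum_mul, ← List.sum_ofFn (f := fun μ => q ^ ell T1 sub2 rad2 μ),
    show (List.ofFn fun μ => q ^ ell T1 sub2 rad2 μ) =
      (List.ofFn fun μ => ell T1 sub2 rad2 μ).map (q ^ ·) from List.map_ofFn.symm, he]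
  simp only [List.map_cons, List.map_nil, List.sum_cons, List.sum_nil, Nat.add_zero, ← add_assoc]

/-- The next roots of step 3. -/
def sub3 : List ℕ := [101, 102, 103, 104, 107, 108, 109, 112, 113, 116, 123, 126, 127, 130, 131, 132, 135, 136, 137, 138]

/-- The radical of step 3. -/
def rad3 : List ℕ := [156, 153, 152, 149, 148, 147, 144, 143, 142, 141]

/-- The generation certificate. -/
def reach3 : List (ℕ × ℕ × ℕ) := [(126, 86, 156), (127, 87, 156), (131, 90, 156), (132, 91, 156), (137, 95, 156), (138, 96, 156), (113, 83, 153), (123, 87, 153), (130, 90, 153), (136, 95, 153), (112, 83, 152), (116, 86, 152), (108, 83, 149), (109, 86, 149), (135, 95, 149), (107, 83, 148), (102, 83, 144), (103, 86, 144), (104, 90, 144), (101, 83, 143), (86, 83, 126), (92, 91, 126), (97, 96, 126), (87, 83, 127), (90, 83, 131), (98, 96, 131), (91, 83, 132), (95, 83, 137), (96, 83, 138), (83, 86, 113)]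

theorem base3 : baseB T1 sub2 sub3 rad3 6 reach3 = true := by decide +kernel

theorem trace3 : traceB T1 sub2 sub3 rad3 6 138 [(138, 96, 143)] = true := by decide +kernel

theorem fix3 : fixB T1 chi sub3 rad3 138 = true := by decide +kernel

theorem cells3 (q : ℕ) : cellsTotal T1 sub3 rad3 q = (q ^ 6 + q ^ 5 + q ^ 4 + q ^ 4 + q ^ 3 + q ^ 2 + q ^ 3 + q ^ 2 + q ^ 1 + q ^ 0) * (q - 1) := by
  have he : (List.ofFn fun μ => ell T1 sub3 rad3 μ) = [6, 5, 4, 4, 3, 2, 3, 2, 1, 0] := by decide +kernel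
  rw [cellsTotal, ← Finset.sum_mul, ← List.sum_ofFn (f := fun μ => q ^ ell T1 sub3 rad3 μ),
    show (List.ofFn fun μ => q ^ ell T1 sub3 rad3 μ) =
      (List.ofFn fun μ => ell T1 sub3 rad3 μ).map (q ^ ·) from List.map_ofFn.symm, he]
  simp only [List.map_cons, List.map_nil, List.sum_cons, List.sum_nil, Nat.add_zero, ← add_assoc]

/-- The next roots of step 4. -/
def sub4 : List ℕ := [107, 108, 109, 112, 113, 116, 123, 126, 127, 130, 131, 132]

/-- The radical of step 4. -/
def rad4 : List ℕ := [138, 137, 136, 135]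

/-- The generation certificate. -/
def reach4 : List (ℕ × ℕ × ℕ) := [(123, 102, 138), (127, 103, 138), (132, 104, 138), (116, 101, 137), (126, 103, 137), (131, 104, 137), (112, 101, 136), (113, 102, 136), (130, 104, 136), (107, 101, 135), (108, 102, 135), (109, 103, 135), (102, 101, 123), (103, 101, 127), (104, 101, 132), (101, 102, 116)]

theorem base4 : baseB T1 sub3 sub4 rad4 3 reach4 = true := by decide +kernel

theorem trace4 : traceB T1 sub3 sub4 rad4 3 132 [(132, 104, 135)] = true := by decide +kernel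

theorem fix4 : fixAll T1 sub4 rad4 132 = true := by decide +kernel

theorem cells4 (q : ℕ) : cellsTotal T1 sub4 rad4 q = (q ^ 3 + q ^ 2 + q ^ 1 + q ^ 0) * (q - 1) := by
  have he : (List.ofFn fun μ => ell T1 sub4 rad4 μ) = [3, 2, 1, 0] := by decide +kernel
  rw [cellsTotal, ← Finset.sum_mul, ← List.sum_ofFn (f := fun μ => q ^ ell T1 sub4 rad4 μ),
    show (List.ofFn fun μ => q ^ ell T1 sub4 rad4 μ) =
      (List.ofFn fun μ => ell T1 sub4 rad4 μ).map (q ^ ·) from List.map_ofFn.symm, he]
  simp only [List.map_cons, List.map_nil, List.sum_cons, List.sum_nil, Nat.add_zero, ← add_assoc]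

/-- The next roots of step 5. -/
def sub5 : List ℕ := [112, 113, 116, 123, 126, 127]

/-- The radical of step 5. -/
def rad5 : List ℕ := [132, 131, 130]

/-- The generation certificate. -/
def reach5 : List (ℕ × ℕ × ℕ) := [(123, 108, 132), (127, 109, 132), (116, 107, 131), (126, 109, 131), (112, 107, 130), (113, 108, 130), (108, 107, 123), (109, 107, 127), (107, 108, 116)]

theorem base5 : baseB T1 sub4 sub5 rad5 2 reach5 = true := by decide +kernel

theorem trace5 : traceB T1 sub4 sub5 rad5 2 127 [(127, 109, 130)] = true := by decide +kernel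

theorem fix5 : fixB T1 chi sub5 rad5 127 = true := by decide +kernel

theorem cells5 (q : ℕ) : cellsTotal T1 sub5 rad5 q = (q ^ 2 + q ^ 1 + q ^ 0) * (q - 1) := by
  have he : (List.ofFn fun μ => ell T1 sub5 rad5 μ) = [2, 1, 0] := by decide +kernel
  rw [cellsTotal, ← Finset.sum_mul, ← List.sum_ofFn (f := fun μ => q ^ ell T1 sub5 rad5 μ),
    show (List.ofFn fun μ => q ^ ell T1 sub5 rad5 μ) =
      (List.ofFn fun μ => ell T1 sub5 rad5 μ).map (q ^ ·) from List.map_ofFn.symm, he]
  simp only [List.map_cons, List.map_nil, List.sum_cons, List.sum_nil, Nat.add_zero, ← add_assoc]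

/-- The next roots of step 6. -/
def sub6 : List ℕ := [116, 123]

/-- The radical of step 6. -/
def rad6 : List ℕ := [127, 126]

/-- The generation certificate. -/
def reach6 : List (ℕ × ℕ × ℕ) := [(123, 113, 127), (116, 112, 126), (113, 112, 123), (112, 113, 116)]

theorem base6 : baseB T1 sub5 sub6 rad6 1 reach6 = true := by decide +kernel

theorem trace6 : traceB T1 sub5 sub6 rad6 1 123 [(123, 113, 126)] = true := by decide +kernel

theorem fix6 : fixB T1 chi sub6 rad6 123 = true := by decide +kernel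

theorem cells6 (q : ℕ) : cellsTotal T1 sub6 rad6 q = (q ^ 1 + q ^ 0) * (q - 1) := by
  have he : (List.ofFn fun μ => ell T1 sub6 rad6 μ) = [1, 0] := by decide +kernel
  rw [cellsTotal, ← Finset.sum_mul, ← List.sum_ofFn (f := fun μ => q ^ ell T1 sub6 rad6 μ),
    show (List.ofFn fun μ => q ^ ell T1 sub6 rad6 μ) =
      (List.ofFn fun μ => ell T1 sub6 rad6 μ).map (q ^ ·) from List.map_ofFn.symm, he]
  simp only [List.map_cons, List.map_nil, List.sum_cons, List.sum_nil, Nat.add_zero, ← add_assoc]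

theorem torus_last : (sub6.all fun r => radB T1 sub6 [] [r] && (chi r == 1 || chi r == -1)) = true := by decide +kernel

end CfsgLib.RootChain.E8
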