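import Cfsg.Agent.Lib.RootChain.Base
import Cfsg.Agent.Lib.RootChain.Chevalley
import Cfsg.Prelude.Def_ChevE6

/-! The chains of root subsystems of type E6. -/

set_option autoImplicit false
set_option maxRecDepth 100000

namespace CfsgLib.RootChain.E6

open Cfsg.Lie

/-- The table of type E6. -/
def T : Table := tableOf chevE6

/-- The exponents of the torus. -/
def chi (r : ℕ) : ℤ := chiOf chevE6 (fun i => if i = 1 then 0 else 1) r

/-- The roots of step 1. -/
def phi1 : List ℕ := List.range 72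
/-- The next roots. -/
def sub1 : List ℕ := [16, 17, 18, 19, 20, 21, 22, 23, 24, 25, 26, 27, 28, 29, 30, 31, 32, 33, 34, 35, 36, 37, 38, 39, 40, 41, 42, 43, 44, 45, 46, 47, 48, 49, 50, 51, 52, 53, 54, 55]
/-- The radical. -/
def rad1 : List ℕ := [71, 70, 69, 68, 67, 66, 65, 64, 63, 62, 61, 60, 59, 58, 57, 56]
/-- The generation certificate. -/
def reach1 : List (ℕ × ℕ × ℕ) := [(46, 1, 71), (47, 2, 71), (48, 3, 71), (49, 4, 71), (50, 5, 71), (51, 6, 71), (52, 7, 71), (53, 8, 71), (54, 9, 71), (55, 10, 71), (25, 0, 70), (39, 2, 70), (40, 3, 70), (41, 4, 70), (43, 5, 70), (44, 6, 70), (45, 7, 70), (24, 0, 69), (32, 1, 69), (37, 3, 69), (38, 4, 69), (42, 5, 69), (23, 0, 68), (31, 1, 68), (34, 2, 68), (36, 4, 68), (22, 0, 67), (30, 1, 67), (33, 2, 67), (35, 3, 67), (21, 0, 66), (28, 1, 66), (29, 2, 66), (20, 0, 65), (27, 1, 65), (19, 0, 64), (26, 1, 64), (18, 0, 63), (17, 0, 62), (16, 0, 61), (1, 0, 46), (11, 8, 46), (12, 9, 46), (13, 10, 46),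 (2, 0, 47), (14, 10, 47), (3, 0, 48), (4, 0, 49), (5, 0, 50), (15, 10, 50), (6, 0, 51), (7, 0, 52), (8, 0, 53), (9, 0, 54), (10, 0, 55), (0, 1, 25)]

theorem base1 : baseB T phi1 sub1 rad1 10 reach1 = true := by decide +kernel

theorem cells1 (q : ℕ) : cellsTotal T sub1 rad1 q = (q ^ 10 + q ^ 9 + q ^ 8 + q ^ 7 + q ^ 6 + q ^ 7 + q ^ 6 + q ^ 5 + q ^ 5 + q ^ 4 + q ^ 3 + q ^ 4 + q ^ 3 + q ^ 2 + q ^ 1 + q ^ 0) * (q - 1) := by
  have he : (List.ofFn fun μ => ell T sub1 rad1 μ) = [10, 9, 8, 7, 6, 7, 6, 5, 5, 4, 3, 4, 3, 2, 1, 0] := by decide +kernel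
  rw [cellsTotal, ← Finset.sum_mul, ← List.sum_ofFn (f := fun μ => q ^ ell T sub1 rad1 μ),
    show (List.ofFn fun μ => q ^ ell T sub1 rad1 μ) =
      (List.ofFn fun μ => ell T sub1 rad1 μ).map (q ^ ·) from List.map_ofFn.symm, he]
  simp only [List.map_cons, List.map_nil, List.sum_cons, List.sum_nil, Nat.add_zero, ← add_assoc]

theorem trace1 : traceB T phi1 sub1 rad1 10 55 [(55, 10, 61)] = true := by decide +kernel

theorem fix1 : fixAll T sub1 rad1 55 = true := by decide +kernel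

/-- The roots of step 2. -/
def phi2 : List ℕ := [16, 17, 18, 19, 20, 21, 22, 23, 24, 25, 26, 27, 28, 29, 30, 31, 32, 33, 34, 35, 36, 37, 38, 39, 40, 41, 42, 43, 44, 45, 46, 47, 48, 49, 50, 51, 52, 53, 54, 55]
/-- The next roots. -/
def sub2 : List ℕ := [26, 27, 28, 29, 30, 31, 32, 33, 34, 35, 36, 37, 38, 39, 40, 41, 42, 43, 44, 45]
/-- The radical. -/
def rad2 : List ℕ := [55, 54, 53, 52, 51, 50, 49, 48, 47, 46]
/-- The generation certificate. -/
def reach2 : List (ℕ × ℕ × ℕ) := [(37, 17, 55), (38, 18, 55), (40, 19, 55), (41, 20, 55), (44, 22, 55), (45, 23, 55), (34, 16, 54), (36, 18, 54), (39, 19, 54), (43, 22, 54), (33, 16, 53), (35, 17, 53), (31, 16, 52), (32, 17, 52), (42, 22, 52), (30, 16, 51), (27, 16, 49), (28, 17, 49), (29, 19, 49), (26, 16, 48), (17, 16, 37), (21, 20, 37), (24, 23, 37), (18, 16, 38), (19, 16, 40), (25, 23, 40), (20, 16, 41), (22, 16, 44), (23, 16, 45), (16, 17, 34)]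

theorem base2 : baseB T phi2 sub2 rad2 6 reach2 = true := by decide +kernel

theorem cells2 (q : ℕ) : cellsTotal T sub2 rad2 q = (q ^ 6 + q ^ 5 + q ^ 4 + q ^ 4 + q ^ 3 + q ^ 2 + q ^ 3 + q ^ 2 + q ^ 1 + q ^ 0) * (q - 1) := by
  have he : (List.ofFn fun μ => ell T sub2 rad2 μ) = [6, 5, 4, 4, 3, 2, 3, 2, 1, 0] := by decide +kernel
  rw [cellsTotal, ← Finset.sum_mul, ← List.sum_ofFn (f := fun μ => q ^ ell T sub2 rad2 μ),
    show (List.ofFn fun μ => q ^ ell T sub2 rad2 μ) =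
      (List.ofFn fun μ => ell T sub2 rad2 μ).map (q ^ ·) from List.map_ofFn.symm, he]
  simp only [List.map_cons, List.map_nil, List.sum_cons, List.sum_nil, Nat.add_zero, ← add_assoc]

theorem trace2 : traceB T phi2 sub2 rad2 6 45 [(45, 23, 48)] = true := by decide +kernel

theorem fix2 : fixB T chi sub2 rad2 45 = true := by decide +kernel

/-- The roots of step 3. -/
def phi3 : List ℕ := [26, 27, 28, 29, 30, 31, 32, 33, 34, 35, 36, 37, 38, 39, 40, 41, 42, 43, 44, 45]
/-- The next roots. -/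
def sub3 : List ℕ := [30, 31, 32, 33, 34, 35, 36, 37, 38, 39, 40, 41]
/-- The radical. -/
def rad3 : List ℕ := [45, 44, 43, 42]
/-- The generation certificate. -/
def reach3 : List (ℕ × ℕ × ℕ) := [(36, 27, 45), (38, 28, 45), (41, 29, 45), (35, 26, 44), (37, 28, 44), (40, 29, 44), (33, 26, 43), (34, 27, 43), (39, 29, 43), (30, 26, 42), (31, 27, 42), (32, 28, 42), (27, 26, 36), (28, 26, 38), (29, 26, 41), (26, 27, 35)]

theorem base3 : baseB T phi3 sub3 rad3 3 reach3 = true := by decide +kernel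

theorem cells3 (q : ℕ) : cellsTotal T sub3 rad3 q = (q ^ 3 + q ^ 2 + q ^ 1 + q ^ 0) * (q - 1) := by
  have he : (List.ofFn fun μ => ell T sub3 rad3 μ) = [3, 2, 1, 0] := by decide +kernel
  rw [cellsTotal, ← Finset.sum_mul, ← List.sum_ofFn (f := fun μ => q ^ ell T sub3 rad3 μ),
    show (List.ofFn fun μ => q ^ ell T sub3 rad3 μ) =
      (List.ofFn fun μ => ell T sub3 rad3 μ).map (q ^ ·) from List.map_ofFn.symm, he]
  simp only [List.map_cons, List.map_nil, List.sum_cons, List.sum_nil, Nat.add_zero, ← add_assoc]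

theorem trace3 : traceB T phi3 sub3 rad3 3 41 [(41, 29, 42)] = true := by decide +kernel

theorem fix3 : fixAll T sub3 rad3 41 = true := by decide +kernel

/-- The roots of step 4. -/
def phi4 : List ℕ := [30, 31, 32, 33, 34, 35, 36, 37, 38, 39, 40, 41]
/-- The next roots. -/
def sub4 : List ℕ := [33, 34, 35, 36, 37, 38]
/-- The radical. -/
def rad4 : List ℕ := [41, 40, 39]
/-- The generation certificate. -/
def reach4 : List (ℕ × ℕ × ℕ) := [(36, 31, 41), (38, 32, 41), (35, 30, 40), (37, 32, 40), (33, 30, 39), (34, 31, 39), (31, 30, 36), (32, 30, 38), (30, 31, 35)]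

theorem base4 : baseB T phi4 sub4 rad4 2 reach4 = true := by decide +kernel

theorem cells4 (q : ℕ) : cellsTotal T sub4 rad4 q = (q ^ 2 + q ^ 1 + q ^ 0) * (q - 1) := by
  have he : (List.ofFn fun μ => ell T sub4 rad4 μ) = [2, 1, 0] := by decide +kernel
  rw [cellsTotal, ← Finset.sum_mul, ← List.sum_ofFn (f := fun μ => q ^ ell T sub4 rad4 μ),
    show (List.ofFn fun μ => q ^ ell T sub4 rad4 μ) =
      (List.ofFn fun μ => ell T sub4 rad4 μ).map (q ^ ·) from List.map_ofFn.symm, he]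
  simp only [List.map_cons, List.map_nil, List.sum_cons, List.sum_nil, Nat.add_zero, ← add_assoc]

theorem trace4 : traceB T phi4 sub4 rad4 2 38 [(38, 32, 39)] = true := by decide +kernel

theorem fix4 : fixB T chi sub4 rad4 38 = true := by decide +kernel

/-- The roots of step 5. -/
def phi5 : List ℕ := [33, 34, 35, 36, 37, 38]
/-- The next roots. -/
def sub5 : List ℕ := [35, 36]
/-- The radical. -/
def rad5 : List ℕ := [38, 37]
/-- The generation certificate. -/
def reach5 : List (ℕ × ℕ × ℕ) := [(36, 34, 38), (35, 33, 37), (34, 33, 36), (33, 34, 35)]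

theorem base5 : baseB T phi5 sub5 rad5 1 reach5 = true := by decide +kernel

theorem cells5 (q : ℕ) : cellsTotal T sub5 rad5 q = (q ^ 1 + q ^ 0) * (q - 1) := by
  have he : (List.ofFn fun μ => ell T sub5 rad5 μ) = [1, 0] := by decide +kernel
  rw [cellsTotal, ← Finset.sum_mul, ← List.sum_ofFn (f := fun μ => q ^ ell T sub5 rad5 μ),
    show (List.ofFn fun μ => q ^ ell T sub5 rad5 μ) =
      (List.ofFn fun μ => ell T sub5 rad5 μ).map (q ^ ·) from List.map_ofFn.symm, he]
  simp only [List.map_cons, List.map_nil, List.sum_cons, List.sum_nil, Nat.add_zero, ← add_assoc]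

theorem trace5 : traceB T phi5 sub5 rad5 1 36 [(36, 34, 37)] = true := by decide +kernel

theorem fix5 : fixB T chi sub5 rad5 36 = true := by decide +kernel

/-- The roots of step M1. -/
def phiM1 : List ℕ := List.range 72
/-- The next roots. -/
def subM1 : List ℕ := [4, 7, 9, 10, 12, 13, 14, 15, 18, 20, 21, 23, 24, 25, 27, 28, 29, 31, 32, 34, 37, 39, 40, 42, 43, 44, 46, 47, 48, 50, 51, 53, 56, 57, 58, 59, 61, 62, 64, 67]
/-- The radical. -/
def radM1 : List ℕ := [71, 70, 69, 68, 66, 65, 63, 60, 55, 54, 52, 49, 45, 41, 38, 36]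
/-- The generation certificate. -/
def reachM1 : List (ℕ × ℕ × ℕ) := [(46, 1, 71), (47, 2, 71), (48, 3, 71), (50, 5, 71), (51, 6, 71), (53, 8, 71), (61, 16, 71), (62, 17, 71), (64, 19, 71), (67, 22, 71), (25, 0, 70), (39, 2, 70), (40, 3, 70), (43, 5, 70), (44, 6, 70), (58, 16, 70), (59, 17, 70), (24, 0, 69), (32, 1, 69), (37, 3, 69), (42, 5, 69), (57, 16, 69), (23, 0, 68), (31, 1, 68), (34, 2, 68), (21, 0, 66), (28, 1, 66), (29, 2, 66), (56, 16, 66), (20, 0, 65), (27, 1, 65), (18, 0, 63), (10, 0, 55), (13, 1, 55), (14, 2, 55), (15, 5, 55), (9, 0, 54), (12, 1, 54), (7, 0, 52), (4, 0, 49), (1, 0, 46), (11, 8, 46), (26, 19, 46), (30, 22, 46), (2, 0, 47), (33, 22, 47), (3, 0, 48), (35, 22, 48), (5, 0, 50), (6, 0, 51), (8, 0, 53), (16, 0, 61), (17, 0, 62), (19, 0, 64), (22, 0, 67), (0, 1, 25)]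

theorem baseM1 : baseB T phiM1 subM1 radM1 10 reachM1 = true := by decide +kernel

theorem cellsM1 (q : ℕ) : cellsTotal T subM1 radM1 q = (q ^ 10 + q ^ 9 + q ^ 8 + q ^ 7 + q ^ 7 + q ^ 6 + q ^ 5 + q ^ 4 + q ^ 6 + q ^ 5 + q ^ 4 + q ^ 3 + q ^ 3 + q ^ 2 + q ^ 1 + q ^ 0) * (q - 1) := by
  have he : (List.ofFn fun μ => ell T subM1 radM1 μ) = [10, 9, 8, 7, 7, 6, 5, 4, 6, 5, 4, 3, 3, 2, 1, 0] := by decide +kernel
  rw [cellsTotal, ← Finset.sum_mul, ← List.sum_ofFn (f := fun μ => q ^ ell T subM1 radM1 μ),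
    show (List.ofFn fun μ => q ^ ell T subM1 radM1 μ) =
      (List.ofFn fun μ => ell T subM1 radM1 μ).map (q ^ ·) from List.map_ofFn.symm, he]
  simp only [List.map_cons, List.map_nil, List.sum_cons, List.sum_nil, Nat.add_zero, ← add_assoc]

theorem traceM1 : traceB T phiM1 subM1 radM1 10 67 [(67, 22, 49)] = true := by decide +kernel

theorem fixM1 : fixAll T subM1 radM1 67 = true := by decide +kernel

/-- The roots of step M2. -/
def phiM2 : List ℕ := [4, 7, 9, 10, 12, 13, 14, 15, 18, 20, 21, 23, 24, 25, 27, 28, 29, 31, 32, 34, 37, 39, 40, 42, 43, 44, 46, 47, 48, 50, 51, 53, 56, 57, 58, 59, 61, 62, 64, 67]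
/-- The next roots. -/
def subM2 : List ℕ := [10, 13, 14, 15, 21, 24, 25, 28, 29, 32, 39, 42, 43, 46, 47, 50, 56, 57, 58, 61]
/-- The radical. -/
def radM2 : List ℕ := [67, 64, 62, 59, 53, 51, 48, 44, 40, 37]
/-- The generation certificate. -/
def reachM2 : List (ℕ × ℕ × ℕ) := [(42, 7, 67), (43, 9, 67), (50, 12, 67), (57, 18, 67), (58, 20, 67), (61, 27, 67), (29, 4, 64), (39, 9, 64), (47, 12, 64), (56, 18, 64), (28, 4, 62), (32, 7, 62), (46, 12, 62), (21, 4, 59), (24, 7, 59), (25, 9, 59), (14, 4, 53), (15, 7, 53), (13, 4, 51), (10, 4, 44), (7, 4, 42), (23, 20, 42), (31, 27, 42), (9, 4, 43), (34, 27, 43), (12, 4, 50), (18, 4, 57), (20, 4, 58), (27, 4, 61), (4, 7, 29)]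

theorem baseM2 : baseB T phiM2 subM2 radM2 6 reachM2 = true := by decide +kernel

theorem cellsM2 (q : ℕ) : cellsTotal T subM2 radM2 q = (q ^ 6 + q ^ 5 + q ^ 4 + q ^ 3 + q ^ 4 + q ^ 3 + q ^ 2 + q ^ 2 + q ^ 1 + q ^ 0) * (q - 1) := by
  have he : (List.ofFn fun μ => ell T subM2 radM2 μ) = [6, 5, 4, 3, 4, 3, 2, 2, 1, 0] := by decide +kernel
  rw [cellsTotal, ← Finset.sum_mul, ← List.sum_ofFn (f := fun μ => q ^ ell T subM2 radM2 μ),
    show (List.ofFn fun μ => q ^ ell T subM2 radM2 μ) =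
      (List.ofFn fun μ => ell T subM2 radM2 μ).map (q ^ ·) from List.map_ofFn.symm, he]
  simp only [List.map_cons, List.map_nil, List.sum_cons, List.sum_nil, Nat.add_zero, ← add_assoc]

/-- The roots of step M3. -/
def phiM3 : List ℕ := [10, 13, 14, 15, 21, 24, 25, 28, 29, 32, 39, 42, 43, 46, 47, 50, 56, 57, 58, 61]
/-- The next roots. -/
def subM3 : List ℕ := [21, 24, 25, 28, 29, 32, 39, 42, 43, 46, 47, 50]
/-- The radical. -/
def radM3 : List ℕ := [61, 58, 57, 56]
/-- The generation certificate. -/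
def reachM3 : List (ℕ × ℕ × ℕ) := [(46, 13, 61), (47, 14, 61), (50, 15, 61), (25, 10, 58), (39, 14, 58), (43, 15, 58), (24, 10, 57), (32, 13, 57), (42, 15, 57), (21, 10, 56), (28, 13, 56), (29, 14, 56), (13, 10, 46), (14, 10, 47), (15, 10, 50), (10, 13, 25)]

theorem baseM3 : baseB T phiM3 subM3 radM3 3 reachM3 = true := by decide +kernel

theorem cellsM3 (q : ℕ) : cellsTotal T subM3 radM3 q = (q ^ 3 + q ^ 2 + q ^ 1 + q ^ 0) * (q - 1) := by
  have he : (List.ofFn fun μ => ell T subM3 radM3 μ) = [3, 2, 1, 0] := by decide +kernel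
  rw [cellsTotal, ← Finset.sum_mul, ← List.sum_ofFn (f := fun μ => q ^ ell T subM3 radM3 μ),
    show (List.ofFn fun μ => q ^ ell T subM3 radM3 μ) =
      (List.ofFn fun μ => ell T subM3 radM3 μ).map (q ^ ·) from List.map_ofFn.symm, he]
  simp only [List.map_cons, List.map_nil, List.sum_cons, List.sum_nil, Nat.add_zero, ← add_assoc]

theorem torus_last : (sub5.all fun r => radB T sub5 [] [r] && (chi r == 1 || chi r == -1)) = true := by decide +kernel

/-- A small radical. -/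
def orbRadFive : List ℕ := [60, 59, 58, 57, 56]
/-- Its Levi roots. -/
def orbSubFive : List ℕ := [26, 27, 28, 29, 30, 31, 32, 33, 34, 35, 36, 37, 38, 39, 40, 41, 42, 43, 44, 45]
/-- The generation certificate. -/
def orbReachFive : List (ℕ × ℕ × ℕ) := [(18, 1, 60), (20, 2, 60), (21, 3, 60), (23, 5, 60), (24, 6, 60), (25, 8, 60), (36, 12, 60), (38, 13, 60), (41, 14, 60), (45, 15, 60), (63, 46, 60), (65, 47, 60), (66, 48, 60), (68, 50, 60), (69, 51, 60), (70, 53, 60), (17, 1, 59), (19, 2, 59), (22, 5, 59), (35, 11, 59), (37, 13, 59), (40, 14, 59), (44, 15, 59), (62, 46, 59), (64, 47, 59), (67, 50, 59), (16, 1, 58), (33, 11, 58), (34, 12, 58), (39, 14, 58), (43, 15, 58), (61, 46, 58), (30, 11, 57), (31, 12, 57), (32, 13, 57), (42, 15, 57), (26, 11, 56), (27, 12, 56), (28, 13, 56), (29, 14, 56), (0, 8, 18), (1, 11, 18), (4, 14, 18), (7, 15, 18), (2, 11, 20), (9, 15, 20), (3, 11, 21), (10, 15, 21), (5, 11, 23), (6, 11, 24), (8, 11, 25), (12,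 11, 36), (49, 48, 36), (52, 51, 36), (54, 53, 36), (13, 11, 38), (55, 53, 38), (14, 11, 41), (15, 11, 45), (46, 11, 63), (71, 53, 63), (47, 11, 65), (48, 11, 66), (50, 11, 68), (51, 11, 69), (53, 11, 70), (11, 12, 35)]

theorem orbFive : (radB T (List.range 72) orbSubFive orbRadFive && adjB T orbSubFive orbRadFive 4 &&
    reachB T (List.range 72) orbRadFive orbReachFive &&
    ((List.range 72).all fun r => orbRadFive.contains r || (orbReachFive.map Prod.fst).contains r) &&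
    orbSubFive.all fun r => r != 71 && 71 != T.opp r && T.add r 71 == none) = true := by decide +kernel

/-- A small radical. -/
def orbRadFour : List ℕ := [45, 44, 43, 42]
/-- Its Levi roots. -/
def orbSubFour : List ℕ := [30, 31, 32, 33, 34, 35, 36, 37, 38, 39, 40, 41]
/-- The generation certificate. -/
def orbReachFour : List (ℕ × ℕ × ℕ) := [(7, 1, 45), (9, 2, 45), (10, 3, 45), (15, 11, 45), (23, 16, 45), (24, 17, 45), (25, 19, 45), (36, 27, 45), (38, 28, 45), (41, 29, 45), (52, 46, 45), (54, 47, 45), (55, 48, 45), (60, 56, 45), (68, 61, 45), (69, 62, 45), (70, 64, 45), (6, 1, 44), (8, 2, 44), (22, 16, 44), (35, 26, 44), (37, 28, 44), (40, 29, 44), (51, 46, 44), (53, 47, 44), (59, 56, 44), (67, 61, 44), (5, 1, 43), (33, 26, 43), (34, 27, 43), (39, 29, 43), (50, 46, 43), (58, 56, 43), (30, 26, 42), (31, 27, 42), (32, 28, 42), (57, 56, 42), (0, 19, 7), (1, 26, 7), (4, 29, 7), (12, 47, 7), (13, 48, 7), (18, 56, 7), (2, 26, 9), (14, 48,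 9), (20, 56, 9), (3, 26, 10), (21, 56, 10), (11, 26, 15), (16, 26, 23), (17, 26, 24), (19, 26, 25), (27, 26, 36), (49, 48, 36), (63, 62, 36), (65, 64, 36), (28, 26, 38), (66, 64, 38), (29, 26, 41), (46, 26, 52), (71, 64, 52), (47, 26, 54), (48, 26, 55), (56, 26, 60), (61, 26, 68), (62, 26, 69), (64, 26, 70), (26, 27, 35)]

theorem orbFour : (radB T (List.range 72) orbSubFour orbRadFour && adjB T orbSubFour orbRadFour 3 &&
    reachB T (List.range 72) orbRadFour orbReachFour &&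
    ((List.range 72).all fun r => orbRadFour.contains r || (orbReachFour.map Prod.fst).contains r) &&
    orbSubFour.all fun r => r != 71 && 71 != T.opp r && T.add r 71 == none) = true := by decide +kernel

/-- The positive roots. -/
def posRoots : List ℕ := [36, 37, 38, 39, 40, 41, 42, 43, 44, 45, 46, 47, 48, 49, 50, 51, 52, 53, 54, 55, 56, 57, 58, 59, 60, 61, 62, 63, 64, 65, 66, 67, 68, 69, 70, 71]
/-- The closure certificate. -/
def closure : List (ℕ × ℕ × ℕ) := [(3, 26, 10), (4, 27, 10), (6, 30, 10), (7, 31, 10), (8, 33, 10), (9, 34, 10), (11, 33, 13), (12, 34, 13), (17, 30, 21), (18, 31, 21), (19, 33, 21), (20, 34, 21), (22, 33, 24), (23, 34, 24), (1, 7, 26), (2, 9, 26), (16, 23, 26), (5, 9, 30), (0, 16, 10)]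

end CfsgLib.RootChain.E6
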