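import Cfsg.Agent.Lib.RootChain.Heisenberg
import Cfsg.Agent.Lib.RootChain.Fast
import Cfsg.Agent.Lib.RootChain.OpsE8

/-! The Heisenberg radical of type E8. -/

set_option autoImplicit false
set_option maxRecDepth 100000

namespace CfsgLib.RootChain.E8

open Cfsg.Lie

/-- The highest root. -/
def top : ℕ := 239

/-- The table without the sums equal to the highest root. -/
def T1 : Table := eraseRoot T top

/-- The exponents of the torus. -/
def chi (r : ℕ) : ℤ :=
  chiOf chevE8 (fun i => [1, 1, 2, 3, 3, 3, 2, 1].getD i 0) r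

/-- The radical modulo its centre. -/
def rad0 : List ℕ := [238, 237, 236, 235, 234, 233, 232, 231, 230, 229, 228, 227, 225, 224, 223, 222, 221, 220, 218, 217, 216, 215, 213, 212, 211, 209, 208, 206, 203, 202, 201, 199, 198, 196, 193, 192, 190, 187, 183, 182, 180, 177, 173, 168, 161, 160, 158, 155, 151, 146, 140, 134, 129, 125, 122, 120]

/-- The roots of type E7. -/
def sub0 : List ℕ := [13, 20, 25, 29, 32, 34, 35, 39, 42, 44, 45, 48, 50, 51, 53, 54, 55, 58, 60, 61, 63, 64, 65, 67, 68, 69, 70, 72, 73, 74, 75, 76, 77, 80, 82, 83, 85, 86, 87, 89, 90, 91, 92, 94, 95, 96, 97, 98, 100, 101, 102, 103, 104, 106, 107, 108, 109, 111, 112, 113, 115, 116, 118, 121, 123, 124, 126, 127, 128, 130, 131, 132, 133, 135, 136, 137, 138, 139, 141, 142, 143, 144, 145, 147, 148, 149, 150, 152, 153, 154, 156, 157, 159, 162, 163, 164, 165, 166, 167, 169, 170, 171, 172, 174, 175, 176, 178, 179, 181, 184, 185, 186, 188, 189, 191, 194, 195, 197, 200, 204, 205, 207, 210,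 214, 219, 226]

/-- The roots acting on the invariants of the centre. -/
def low0 : List ℕ := rad0 ++ sub0

/-- A maximal abelian part of the radical. -/
def radA : List ℕ := [239, 238, 225, 237, 236, 235, 234, 233, 224, 223, 222, 221, 220, 218, 217, 216, 215, 213, 212, 211, 209, 208, 206, 161, 160, 158, 155, 151, 146]

/-- The roots acting on it. -/
def levA : List ℕ := [226, 120, 168, 122, 125, 129, 134, 140, 173, 177, 180, 182, 183, 187, 190, 192, 193, 196, 198, 199, 201, 202, 203, 227, 228, 229, 230, 231, 232, 169, 200]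

/-- The generation certificate. -/
def reach0 : List (ℕ × ℕ × ℕ) := [(120, 1, 239), (122, 2, 239), (125, 3, 239), (129, 4, 239), (134, 5, 239), (140, 6, 239), (146, 7, 239), (151, 8, 239), (155, 9, 239), (158, 10, 239), (160, 11, 239), (161, 12, 239), (168, 14, 239), (173, 15, 239), (177, 16, 239), (180, 17, 239), (182, 18, 239), (183, 19, 239), (187, 21, 239), (190, 22, 239), (192, 23, 239), (193, 24, 239), (196, 26, 239), (198, 27, 239), (199, 28, 239), (201, 30, 239), (202, 31, 239), (203, 33, 239), (206, 36, 239), (208, 37, 239), (209, 38, 239), (211, 40, 239), (212, 41, 239), (213, 43, 239), (215, 46, 239), (216, 47, 239), (217, 49, 239), (218, 52, 239), (220, 56, 239), (221, 57, 239), (222, 59, 239), (223, 62, 239), (224, 66, 239), (225, 71, 239), (227, 78, 239), (228, 79, 239), (229, 81, 239), (230, 84, 239), (231, 88, 239), (232, 93, 239), (233, 99, 239), (234, 105, 239), (235, 110, 239), (236, 114, 239), (237, 117, 239), (238, 119, 239),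 (1, 0, 120), (13, 12, 120), (20, 19, 120), (25, 24, 120), (29, 28, 120), (32, 31, 120), (34, 33, 120), (39, 38, 120), (42, 41, 120), (44, 43, 120), (48, 47, 120), (50, 49, 120), (53, 52, 120), (58, 57, 120), (60, 59, 120), (63, 62, 120), (67, 66, 120), (72, 71, 120), (80, 79, 120), (82, 81, 120), (85, 84, 120), (89, 88, 120), (94, 93, 120), (100, 99, 120), (106, 105, 120), (111, 110, 120), (115, 114, 120), (118, 117, 120), (2, 0, 122), (35, 33, 122), (45, 43, 122), (51, 49, 122), (54, 52, 122), (61, 59, 122), (64, 62, 122), (68, 66, 122), (73, 71, 122), (83, 81, 122), (86, 84, 122), (90, 88, 122), (95, 93, 122), (101, 99, 122), (107, 105, 122), (112, 110, 122), (116, 114, 122), (121, 119, 122), (3, 0, 125), (55, 52, 125), (65, 62, 125), (69, 66, 125), (74, 71, 125), (87, 84, 125), (91, 88, 125), (96, 93, 125), (102, 99, 125), (108, 105, 125), (113, 110, 125), (123, 117, 125), (124, 119, 125), (4, 0, 129), (70, 66, 129), (75, 71, 129), (92, 88, 129),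 (97, 93, 129), (103, 99, 129), (109, 105, 129), (126, 114, 129), (127, 117, 129), (128, 119, 129), (5, 0, 134), (76, 71, 134), (98, 93, 134), (104, 99, 134), (130, 110, 134), (131, 114, 134), (132, 117, 134), (133, 119, 134), (6, 0, 140), (77, 71, 140), (135, 105, 140), (136, 110, 140), (137, 114, 140), (138, 117, 140), (139, 119, 140), (7, 0, 146), (141, 105, 146), (142, 110, 146), (143, 114, 146), (144, 117, 146), (145, 119, 146), (8, 0, 151), (147, 110, 151), (148, 114, 151), (149, 117, 151), (150, 119, 151), (9, 0, 155), (152, 114, 155), (153, 117, 155), (154, 119, 155), (10, 0, 158), (156, 117, 158), (157, 119, 158), (11, 0, 160), (159, 119, 160), (12, 0, 161), (14, 0, 168), (162, 99, 168), (163, 105, 168), (164, 110, 168), (165, 114, 168), (166, 117, 168), (167, 119, 168), (15, 0, 173), (169, 110, 173), (170, 114, 173), (171, 117, 173), (172, 119, 173), (16, 0, 177), (174, 114, 177), (175, 117, 177), (176, 119, 177), (17, 0, 180), (178, 117,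 180), (179, 119, 180), (18, 0, 182), (181, 119, 182), (19, 0, 183), (21, 0, 187), (184, 114, 187), (185, 117, 187), (186, 119, 187), (22, 0, 190), (188, 117, 190), (189, 119, 190), (23, 0, 192), (191, 119, 192), (24, 0, 193), (26, 0, 196), (194, 117, 196), (195, 119, 196), (27, 0, 198), (197, 119, 198), (28, 0, 199), (30, 0, 201), (200, 119, 201), (31, 0, 202), (33, 0, 203), (36, 0, 206), (204, 117, 206), (205, 119, 206), (37, 0, 208), (207, 119, 208), (38, 0, 209), (40, 0, 211), (210, 119, 211), (41, 0, 212), (43, 0, 213), (46, 0, 215), (214, 119, 215), (47, 0, 216), (49, 0, 217), (52, 0, 218), (56, 0, 220), (219, 119, 220), (57, 0, 221), (59, 0, 222), (62, 0, 223), (66, 0, 224), (71, 0, 225), (78, 0, 227), (226, 119, 227), (79, 0, 228), (81, 0, 229), (84, 0, 230), (88, 0, 231), (93, 0, 232), (99, 0, 233), (105, 0, 234), (110, 0, 235), (114, 0, 236), (117, 0, 237), (119, 0, 238), (0, 119, 1)]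

/-- The path to the highest root. -/
def pathZ : List (ℕ × ℕ × ℕ) := [(239, 120, 119)]

/-- The path to `θ`. -/
def pathT : List (ℕ × ℕ × ℕ) := [(226, 78, 161)]

/-- The neighbours. -/
def nbr0 : List (List (ℕ × ℕ)) := [
  [(1, 121), (2, 124), (3, 128), (4, 133), (5, 139), (6, 145), (7, 150), (8, 154), (9, 157), (10, 159), (12, 167), (13, 172), (14, 176), (15, 179), (16, 181), (18, 186), (19, 189), (20, 191), (22, 195), (23, 197), (25, 200), (28, 205), (29, 207), (31, 210), (34, 214), (38, 219), (44, 226)],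
  [(0, 118), (2, 123), (3, 127), (4, 132), (5, 138), (6, 144), (7, 149), (8, 153), (9, 156), (11, 159), (12, 166), (13, 171), (14, 175), (15, 178), (17, 181), (18, 185), (19, 188), (21, 191), (22, 194), (24, 197), (26, 200), (28, 204), (30, 207), (32, 210), (35, 214), (39, 219), (45, 226)],
  [(0, 115), (1, 116), (3, 126), (4, 131), (5, 137), (6, 143), (7, 148), (8, 152), (10, 156), (11, 157), (12, 165), (13, 170), (14, 174), (16, 178), (17, 179), (18, 184), (20, 188), (21, 189), (23, 194), (24, 195), (27, 200), (29, 204), (30, 205), (33, 210), (36, 214), (40, 219), (46, 226)],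
  [(0, 111), (1, 112), (2, 113), (4, 130), (5, 136), (6, 142), (7, 147), (9, 152), (10, 153), (11, 154), (12, 164), (13, 169), (15, 174), (16, 175), (17, 176), (19, 184), (20, 185), (21, 186), (25, 194), (26, 195), (27, 197), (31, 204), (32, 205), (33, 207), (37, 214), (41, 219), (47, 226)],
  [(0, 106), (1, 107), (2, 108), (3, 109), (5, 135), (6, 141), (8, 147), (9, 148), (10, 149), (11, 150), (12, 163), (14, 169), (15, 170), (16, 171), (17, 172), (22, 184), (23, 185), (24, 186), (25, 188), (26, 189), (27, 191), (34, 204), (35, 205), (36, 207), (37, 210), (42, 219), (48, 226)],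
  [(0, 100), (1, 101), (2, 102), (3, 103), (4, 104), (7, 141), (8, 142), (9, 143), (10, 144), (11, 145), (12, 162), (18, 169), (19, 170), (20, 171), (21, 172), (22, 174), (23, 175), (24, 176), (25, 178), (26, 179), (27, 181), (38, 204), (39, 205), (40, 207), (41, 210), (42, 214), (49, 226)],
  [(0, 94), (1, 95), (2, 96), (3, 97), (4, 98), (7, 135), (8, 136), (9, 137), (10, 138), (11, 139), (13, 163), (14, 164), (15, 165), (16, 166), (17, 167), (28, 184), (29, 185), (30, 186), (31, 188), (32, 189), (33, 191), (34, 194), (35, 195), (36, 197), (37, 200), (43, 219), (50, 226)],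
  [(0, 89), (1, 90), (2, 91), (3, 92), (5, 98), (6, 104), (8, 130), (9, 131), (10, 132), (11, 133), (13, 162), (18, 164), (19, 165), (20, 166), (21, 167), (28, 174), (29, 175), (30, 176), (31, 178), (32, 179), (33, 181), (38, 194), (39, 195), (40, 197), (41, 200), (43, 214), (51, 226)],
  [(0, 85), (1, 86), (2, 87), (4, 92), (5, 97), (6, 103), (7, 109), (9, 126), (10, 127), (11, 128), (14, 162), (18, 163), (22, 165), (23, 166), (24, 167), (28, 170), (29, 171), (30, 172), (34, 178), (35, 179), (36, 181), (38, 188), (39, 189), (40, 191), (42, 200), (43, 210), (52, 226)],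
  [(0, 82), (1, 83), (3, 87), (4, 91), (5, 96), (6, 102), (7, 108), (8, 113), (10, 123), (11, 124), (15, 162), (19, 163), (22, 164), (25, 166), (26, 167), (28, 169), (31, 171), (32, 172), (34, 175), (35, 176), (37, 181), (38, 185), (39, 186), (41, 191), (42, 197), (43, 207), (53, 226)],
  [(0, 80), (2, 83), (3, 86), (4, 90), (5, 95), (6, 101), (7, 107), (8, 112), (9, 116), (11, 121), (16, 162), (20, 163), (23, 164), (25, 165), (27, 167), (29, 169), (31, 170), (33, 172), (34, 174), (36, 176), (37, 179), (38, 184), (40, 186), (41, 189), (42, 195), (43, 205), (54, 226)],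
  [(1, 80), (2, 82), (3, 85), (4, 89), (5, 94), (6, 100), (7, 106), (8, 111), (9, 115), (10, 118), (17, 162), (21, 163), (24, 164), (26, 165), (27, 166), (30, 169), (32, 170), (33, 171), (35, 174), (36, 175), (37, 178), (39, 184), (40, 185), (41, 188), (42, 194), (43, 204), (55, 226)],
  [(0, 72), (1, 73), (2, 74), (3, 75), (4, 76), (5, 77), (13, 141), (14, 142), (15, 143), (16, 144), (17, 145), (18, 147), (19, 148), (20, 149), (21, 150), (22, 152), (23, 153), (24, 154), (25, 156), (26, 157), (27, 159), (44, 204), (45, 205), (46, 207), (47, 210), (48, 214), (49, 219)],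
  [(0, 67), (1, 68), (2, 69), (3, 70), (6, 76), (7, 77), (12, 98), (14, 130), (15, 131), (16, 132), (17, 133), (18, 136), (19, 137), (20, 138), (21, 139), (28, 152), (29, 153), (30, 154), (31, 156), (32, 157), (33, 159), (44, 194), (45, 195), (46, 197), (47, 200), (50, 214), (51, 219)],
  [(0, 63), (1, 64), (2, 65), (4, 70), (6, 75), (8, 77), (12, 97), (13, 109), (15, 126), (16, 127), (17, 128), (18, 135), (22, 137), (23, 138), (24, 139), (28, 148), (29, 149), (30, 150), (34, 156), (35, 157), (36, 159), (44, 188), (45, 189), (46, 191), (48, 200), (50, 210), (52, 219)],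
  [(0, 60), (1, 61), (3, 65), (4, 69), (6, 74), (9, 77), (12, 96), (13, 108), (14, 113), (16, 123), (17, 124), (19, 135), (22, 136), (25, 138), (26, 139), (28, 147), (31, 149), (32, 150), (34, 153), (35, 154), (37, 159), (44, 185), (45, 186), (47, 191), (48, 197), (50, 207), (53, 219)],
  [(0, 58), (2, 61), (3, 64), (4, 68), (6, 73), (10, 77), (12, 95), (13, 107), (14, 112), (15, 116), (17, 121), (20, 135), (23, 136), (25, 137), (27, 139), (29, 147), (31, 148), (33, 150), (34, 152), (36, 154), (37, 157), (44, 184), (46, 186), (47, 189), (48, 195), (50, 205), (54, 219)],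
  [(1, 58), (2, 60), (3, 63), (4, 67), (6, 72), (11, 77), (12, 94), (13, 106), (14, 111), (15, 115), (16, 118), (21, 135), (24, 136), (26, 137), (27, 138), (30, 147), (32, 148), (33, 149), (35, 152), (36, 153), (37, 156), (45, 184), (46, 185), (47, 188), (48, 194), (50, 204), (55, 219)],
  [(0, 53), (1, 54), (2, 55), (5, 70), (7, 75), (8, 76), (12, 92), (13, 103), (14, 104), (19, 126), (20, 127), (21, 128), (22, 131), (23, 132), (24, 133), (28, 143), (29, 144), (30, 145), (38, 156), (39, 157), (40, 159), (44, 178), (45, 179), (46, 181), (49, 200), (51, 210), (52, 214)],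
  [(0, 50), (1, 51), (3, 55), (5, 69), (7, 74), (9, 76), (12, 91), (13, 102), (15, 104), (18, 113), (20, 123), (21, 124), (22, 130), (25, 132), (26, 133), (28, 142), (31, 144), (32, 145), (38, 153), (39, 154), (41, 159), (44, 175), (45, 176), (47, 181), (49, 197), (51, 207), (53, 214)],
  [(0, 48), (2, 51), (3, 54), (5, 68), (7, 73), (10, 76), (12, 90), (13, 101), (16, 104), (18, 112), (19, 116), (21, 121), (23, 130), (25, 131), (27, 133), (29, 142), (31, 143), (33, 145), (38, 152), (40, 154), (41, 157), (44, 174), (46, 176), (47, 179), (49, 195), (51, 205), (54, 214)],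
  [(1, 48), (2, 50), (3, 53), (5, 67), (7, 72), (11, 76), (12, 89), (13, 100), (17, 104), (18, 111), (19, 115), (20, 118), (24, 130), (26, 131), (27, 132), (30, 142), (32, 143), (33, 144), (39, 152), (40, 153), (41, 156), (45, 174), (46, 175), (47, 178), (49, 194), (51, 204), (55, 214)],
  [(0, 44), (1, 45), (4, 55), (5, 65), (8, 74), (9, 75), (12, 87), (14, 102), (15, 103), (18, 108), (19, 109), (23, 123), (24, 124), (25, 127), (26, 128), (28, 141), (34, 144), (35, 145), (38, 149), (39, 150), (42, 159), (44, 171), (45, 172), (48, 181), (49, 191), (52, 207), (53, 210)],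
  [(0, 42), (2, 45), (4, 54), (5, 64), (8, 73), (10, 75), (12, 86), (14, 101), (16, 103), (18, 107), (20, 109), (22, 116), (24, 121), (25, 126), (27, 128), (29, 141), (34, 143), (36, 145), (38, 148), (40, 150), (42, 157), (44, 170), (46, 172), (48, 179), (49, 189), (52, 205), (54, 210)],
  [(1, 42), (2, 44), (4, 53), (5, 63), (8, 72), (11, 75), (12, 85), (14, 100), (17, 103), (18, 106), (21, 109), (22, 115), (23, 118), (26, 126), (27, 127), (30, 141), (35, 143), (36, 144), (39, 148), (40, 149), (42, 156), (45, 170), (46, 171), (48, 178), (49, 188), (52, 204), (55, 210)],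
  [(0, 39), (3, 45), (4, 51), (5, 61), (9, 73), (10, 74), (12, 83), (15, 101), (16, 102), (19, 107), (20, 108), (22, 112), (23, 113), (26, 121), (27, 124), (31, 141), (34, 142), (37, 145), (38, 147), (41, 150), (42, 154), (44, 169), (47, 172), (48, 176), (49, 186), (53, 205), (54, 207)],
  [(1, 39), (3, 44), (4, 50), (5, 60), (9, 72), (11, 74), (12, 82), (15, 100), (17, 102), (19, 106), (21, 108), (22, 111), (24, 113), (25, 118), (27, 123), (32, 141), (35, 142), (37, 144), (39, 147), (41, 149), (42, 153), (45, 169), (47, 171), (48, 175), (49, 185), (53, 204), (55, 207)],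
  [(2, 39), (3, 42), (4, 48), (5, 58), (10, 72), (11, 73), (12, 80), (16, 100), (17, 101), (20, 106), (21, 107), (23, 111), (24, 112), (25, 115), (26, 116), (33, 141), (36, 142), (37, 143), (40, 147), (41, 148), (42, 152), (46, 169), (47, 170), (48, 174), (49, 184), (54, 204), (55, 205)],
  [(0, 34), (1, 35), (6, 55), (7, 65), (8, 69), (9, 70), (13, 87), (14, 91), (15, 92), (18, 96), (19, 97), (22, 98), (29, 123), (30, 124), (31, 127), (32, 128), (34, 132), (35, 133), (38, 138), (39, 139), (43, 159), (44, 166), (45, 167), (50, 181), (51, 191), (52, 197), (53, 200)],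
  [(0, 32), (2, 35), (6, 54), (7, 64), (8, 68), (10, 70), (13, 86), (14, 90), (16, 92), (18, 95), (20, 97), (23, 98), (28, 116), (30, 121), (31, 126), (33, 128), (34, 131), (36, 133), (38, 137), (40, 139), (43, 157), (44, 165), (46, 167), (50, 179), (51, 189), (52, 195), (54, 200)],
  [(1, 32), (2, 34), (6, 53), (7, 63), (8, 67), (11, 70), (13, 85), (14, 89), (17, 92), (18, 94), (21, 97), (24, 98), (28, 115), (29, 118), (32, 126), (33, 127), (35, 131), (36, 132), (39, 137), (40, 138), (43, 156), (45, 165), (46, 166), (50, 178), (51, 188), (52, 194), (55, 200)],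
  [(0, 29), (3, 35), (6, 51), (7, 61), (9, 68), (10, 69), (13, 83), (15, 90), (16, 91), (19, 95), (20, 96), (25, 98), (28, 112), (29, 113), (32, 121), (33, 124), (34, 130), (37, 133), (38, 136), (41, 139), (43, 154), (44, 164), (47, 167), (50, 176), (51, 186), (53, 195), (54, 197)],
  [(1, 29), (3, 34), (6, 50), (7, 60), (9, 67), (11, 69), (13, 82), (15, 89), (17, 91), (19, 94), (21, 96), (26, 98), (28, 111), (30, 113), (31, 118), (33, 123), (35, 130), (37, 132), (39, 136), (41, 138), (43, 153), (45, 164), (47, 166), (50, 175), (51, 185), (53, 194), (55, 197)],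
  [(2, 29), (3, 32), (6, 48), (7, 58), (10, 67), (11, 68), (13, 80), (16, 89), (17, 90), (20, 94), (21, 95), (27, 98), (29, 111), (30, 112), (31, 115), (32, 116), (36, 130), (37, 131), (40, 136), (41, 137), (43, 152), (46, 164), (47, 165), (50, 174), (51, 184), (54, 194), (55, 195)],
  [(0, 25), (4, 35), (6, 45), (8, 61), (9, 64), (10, 65), (14, 83), (15, 86), (16, 87), (22, 95), (23, 96), (25, 97), (28, 107), (29, 108), (31, 109), (35, 121), (36, 124), (37, 128), (38, 135), (42, 139), (43, 150), (44, 163), (48, 167), (50, 172), (52, 186), (53, 189), (54, 191)],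
  [(1, 25), (4, 34), (6, 44), (8, 60), (9, 63), (11, 65), (14, 82), (15, 85), (17, 87), (22, 94), (24, 96), (26, 97), (28, 106), (30, 108), (32, 109), (34, 118), (36, 123), (37, 127), (39, 135), (42, 138), (43, 149), (45, 163), (48, 166), (50, 171), (52, 185), (53, 188), (55, 191)],
  [(2, 25), (4, 32), (6, 42), (8, 58), (10, 63), (11, 64), (14, 80), (16, 85), (17, 86), (23, 94), (24, 95), (27, 97), (29, 106), (30, 107), (33, 109), (34, 115), (35, 116), (37, 126), (40, 135), (42, 137), (43, 148), (46, 163), (48, 165), (50, 170), (52, 184), (54, 188), (55, 189)],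
  [(3, 25), (4, 29), (6, 39), (9, 58), (10, 60), (11, 61), (15, 80), (16, 82), (17, 83), (25, 94), (26, 95), (27, 96), (31, 106), (32, 107), (33, 108), (34, 111), (35, 112), (36, 113), (41, 135), (42, 136), (43, 147), (47, 163), (48, 164), (50, 169), (53, 184), (54, 185), (55, 186)],
  [(0, 20), (5, 35), (7, 45), (8, 51), (9, 54), (10, 55), (18, 83), (19, 86), (20, 87), (22, 90), (23, 91), (25, 92), (28, 101), (29, 102), (31, 103), (34, 104), (39, 121), (40, 124), (41, 128), (42, 133), (43, 145), (44, 162), (49, 167), (51, 172), (52, 176), (53, 179), (54, 181)],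
  [(1, 20), (5, 34), (7, 44), (8, 50), (9, 53), (11, 55), (18, 82), (19, 85), (21, 87), (22, 89), (24, 91), (26, 92), (28, 100), (30, 102), (32, 103), (35, 104), (38, 118), (40, 123), (41, 127), (42, 132), (43, 144), (45, 162), (49, 166), (51, 171), (52, 175), (53, 178), (55, 181)],
  [(2, 20), (5, 32), (7, 42), (8, 48), (10, 53), (11, 54), (18, 80), (20, 85), (21, 86), (23, 89), (24, 90), (27, 92), (29, 100), (30, 101), (33, 103), (36, 104), (38, 115), (39, 116), (41, 126), (42, 131), (43, 143), (46, 162), (49, 165), (51, 170), (52, 174), (54, 178), (55, 179)],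
  [(3, 20), (5, 29), (7, 39), (9, 48), (10, 50), (11, 51), (19, 80), (20, 82), (21, 83), (25, 89), (26, 90), (27, 91), (31, 100), (32, 101), (33, 102), (37, 104), (38, 111), (39, 112), (40, 113), (42, 130), (43, 142), (47, 162), (49, 164), (51, 169), (53, 174), (54, 175), (55, 176)],
  [(4, 20), (5, 25), (8, 39), (9, 42), (10, 44), (11, 45), (22, 80), (23, 82), (24, 83), (25, 85), (26, 86), (27, 87), (34, 100), (35, 101), (36, 102), (37, 103), (38, 106), (39, 107), (40, 108), (41, 109), (43, 141), (48, 162), (49, 163), (52, 169), (53, 170), (54, 171), (55, 172)],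
  [(6, 20), (7, 25), (8, 29), (9, 32), (10, 34), (11, 35), (28, 80), (29, 82), (30, 83), (31, 85), (32, 86), (33, 87), (34, 89), (35, 90), (36, 91), (37, 92), (38, 94), (39, 95), (40, 96), (41, 97), (42, 98), (50, 162), (51, 163), (52, 164), (53, 165), (54, 166), (55, 167)],
  [(0, 13), (12, 35), (13, 45), (14, 51), (15, 54), (16, 55), (18, 61), (19, 64), (20, 65), (22, 68), (23, 69), (25, 70), (28, 73), (29, 74), (31, 75), (34, 76), (38, 77), (45, 121), (46, 124), (47, 128), (48, 133), (49, 139), (50, 145), (51, 150), (52, 154), (53, 157), (54, 159)],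
  [(1, 13), (12, 34), (13, 44), (14, 50), (15, 53), (17, 55), (18, 60), (19, 63), (21, 65), (22, 67), (24, 69), (26, 70), (28, 72), (30, 74), (32, 75), (35, 76), (39, 77), (44, 118), (46, 123), (47, 127), (48, 132), (49, 138), (50, 144), (51, 149), (52, 153), (53, 156), (55, 159)],
  [(2, 13), (12, 32), (13, 42), (14, 48), (16, 53), (17, 54), (18, 58), (20, 63), (21, 64), (23, 67), (24, 68), (27, 70), (29, 72), (30, 73), (33, 75), (36, 76), (40, 77), (44, 115), (45, 116), (47, 126), (48, 131), (49, 137), (50, 143), (51, 148), (52, 152), (54, 156), (55, 157)],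
  [(3, 13), (12, 29), (13, 39), (15, 48), (16, 50), (17, 51), (19, 58), (20, 60), (21, 61), (25, 67), (26, 68), (27, 69), (31, 72), (32, 73), (33, 74), (37, 76), (41, 77), (44, 111), (45, 112), (46, 113), (48, 130), (49, 136), (50, 142), (51, 147), (53, 152), (54, 153), (55, 154)],
  [(4, 13), (12, 25), (14, 39), (15, 42), (16, 44), (17, 45), (22, 58), (23, 60), (24, 61), (25, 63), (26, 64), (27, 65), (34, 72), (35, 73), (36, 74), (37, 75), (42, 77), (44, 106), (45, 107), (46, 108), (47, 109), (49, 135), (50, 141), (52, 147), (53, 148), (54, 149), (55, 150)],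
  [(5, 13), (12, 20), (18, 39), (19, 42), (20, 44), (21, 45), (22, 48), (23, 50), (24, 51), (25, 53), (26, 54), (27, 55), (38, 72), (39, 73), (40, 74), (41, 75), (42, 76), (44, 100), (45, 101), (46, 102), (47, 103), (48, 104), (51, 141), (52, 142), (53, 143), (54, 144), (55, 145)],
  [(6, 13), (13, 25), (14, 29), (15, 32), (16, 34), (17, 35), (28, 58), (29, 60), (30, 61), (31, 63), (32, 64), (33, 65), (34, 67), (35, 68), (36, 69), (37, 70), (43, 77), (44, 94), (45, 95), (46, 96), (47, 97), (48, 98), (51, 135), (52, 136), (53, 137), (54, 138), (55, 139)],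
  [(7, 13), (13, 20), (18, 29), (19, 32), (20, 34), (21, 35), (28, 48), (29, 50), (30, 51), (31, 53), (32, 54), (33, 55), (38, 67), (39, 68), (40, 69), (41, 70), (43, 76), (44, 89), (45, 90), (46, 91), (47, 92), (49, 98), (50, 104), (52, 130), (53, 131), (54, 132), (55, 133)],
  [(8, 13), (14, 20), (18, 25), (22, 32), (23, 34), (24, 35), (28, 42), (29, 44), (30, 45), (34, 53), (35, 54), (36, 55), (38, 63), (39, 64), (40, 65), (42, 70), (43, 75), (44, 85), (45, 86), (46, 87), (48, 92), (49, 97), (50, 103), (51, 109), (53, 126), (54, 127), (55, 128)],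
  [(9, 13), (15, 20), (19, 25), (22, 29), (25, 34), (26, 35), (28, 39), (31, 44), (32, 45), (34, 50), (35, 51), (37, 55), (38, 60), (39, 61), (41, 65), (42, 69), (43, 74), (44, 82), (45, 83), (47, 87), (48, 91), (49, 96), (50, 102), (51, 108), (52, 113), (54, 123), (55, 124)],
  [(10, 13), (16, 20), (20, 25), (23, 29), (25, 32), (27, 35), (29, 39), (31, 42), (33, 45), (34, 48), (36, 51), (37, 54), (38, 58), (40, 61), (41, 64), (42, 68), (43, 73), (44, 80), (46, 83), (47, 86), (48, 90), (49, 95), (50, 101), (51, 107), (52, 112), (53, 116), (55, 121)],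
  [(11, 13), (17, 20), (21, 25), (24, 29), (26, 32), (27, 34), (30, 39), (32, 42), (33, 44), (35, 48), (36, 50), (37, 53), (39, 58), (40, 60), (41, 63), (42, 67), (43, 72), (45, 80), (46, 82), (47, 85), (48, 89), (49, 94), (50, 100), (51, 106), (52, 111), (53, 115), (54, 118)]]

/-- The witnesses. -/
def wit0 : List (List (ℕ × ℕ)) := [
  [(0, 0), (0, 0), (0, 0), (0, 0), (0, 0), (0, 0), (0, 0), (0, 0), (0, 0), (0, 0), (0, 0), (162, 163), (0, 0), (0, 0), (0, 0), (0, 0), (0, 0), (77, 135), (0, 0), (0, 0), (0, 0), (76, 104), (0, 0), (0, 0), (75, 103), (0, 0), (74, 102), (73, 101), (0, 0), (0, 0), (70, 92), (0, 0), (69, 91), (68, 90), (0, 0), (65, 87), (64, 86), (61, 83), (0, 0), (55, 87), (54, 86), (51, 83), (45, 83), (35, 83), (0, 0), (55, 65), (54, 64), (51, 61), (45, 61), (45, 51), (35, 61), (35, 51), (35, 45), (35, 45), (35, 45), (13, 20)],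
  [(0, 0), (0, 0), (0, 0), (0, 0), (0, 0), (0, 0), (0, 0), (0, 0), (0, 0), (0, 0), (162, 163), (0, 0), (0, 0), (0, 0), (0, 0), (0, 0), (77, 135), (0, 0), (0, 0), (0, 0), (76, 104), (0, 0), (0, 0), (75, 103), (0, 0), (74, 102), (0, 0), (72, 100), (0, 0), (70, 92), (0, 0), (69, 91), (0, 0), (67, 89), (65, 87), (0, 0), (63, 85), (60, 82), (55, 87), (0, 0), (53, 85), (50, 82), (44, 82), (34, 82), (55, 65), (0, 0), (53, 63), (50, 60), (44, 60), (44, 50), (34, 60), (34, 50), (34, 44), (34, 44), (13, 20), (34, 44)],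
  [(0, 0), (0, 0), (0, 0), (0, 0), (0, 0), (0, 0), (0, 0), (0, 0), (0, 0), (162, 163), (0, 0), (0, 0), (0, 0), (0, 0), (0, 0), (77, 135), (0, 0), (0, 0), (0, 0), (76, 104), (0, 0), (0, 0), (75, 103), (0, 0), (0, 0), (73, 101), (72, 100), (0, 0), (70, 92), (0, 0), (0, 0), (68, 90), (67, 89), (0, 0), (64, 86), (63, 85), (0, 0), (58, 80), (54, 86), (53, 85), (0, 0), (48, 80), (42, 80), (32, 80), (54, 64), (53, 63), (0, 0), (48, 58), (42, 58), (42, 48), (32, 58), (32, 48), (32, 42), (13, 20), (32, 42), (32, 42)],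
  [(0, 0), (0, 0), (0, 0), (0, 0), (0, 0), (0, 0), (0, 0), (0, 0), (162, 163), (0, 0), (0, 0), (0, 0), (0, 0), (0, 0), (77, 135), (0, 0), (0, 0), (0, 0), (76, 104), (0, 0), (0, 0), (0, 0), (74, 102), (73, 101), (72, 100), (0, 0), (0, 0), (0, 0), (69, 91), (68, 90), (67, 89), (0, 0), (0, 0), (0, 0), (61, 83), (60, 82), (58, 80), (0, 0), (51, 83), (50, 82), (48, 80), (0, 0), (39, 80), (29, 80), (51, 61), (50, 60), (48, 58), (0, 0), (39, 58), (39, 48), (29, 58), (29, 48), (13, 20), (29, 39), (29, 39), (29, 39)],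
  [(0, 0), (0, 0), (0, 0), (0, 0), (0, 0), (0, 0), (0, 0), (162, 164), (0, 0), (0, 0), (0, 0), (0, 0), (0, 0), (77, 136), (0, 0), (0, 0), (0, 0), (0, 0), (75, 103), (74, 102), (73, 101), (72, 100), (0, 0), (0, 0), (0, 0), (0, 0), (0, 0), (0, 0), (65, 87), (64, 86), (63, 85), (61, 83), (60, 82), (58, 80), (0, 0), (0, 0), (0, 0), (0, 0), (45, 83), (44, 82), (42, 80), (39, 80), (0, 0), (25, 80), (45, 61), (44, 60), (42, 58), (39, 58), (0, 0), (39, 42), (25, 58), (13, 20), (25, 42), (25, 39), (25, 39), (25, 39)],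
  [(0, 0), (0, 0), (0, 0), (0, 0), (0, 0), (0, 0), (163, 164), (0, 0), (0, 0), (0, 0), (0, 0), (0, 0), (0, 0), (76, 130), (75, 109), (74, 108), (73, 107), (72, 106), (0, 0), (0, 0), (0, 0), (0, 0), (0, 0), (0, 0), (0, 0), (0, 0), (0, 0), (0, 0), (55, 87), (54, 86), (53, 85), (51, 83), (50, 82), (48, 80), (45, 83), (44, 82), (42, 80), (39, 80), (0, 0), (0, 0), (0, 0), (0, 0), (0, 0), (20, 80), (45, 51), (44, 50), (42, 48), (39, 48), (39, 42), (0, 0), (13, 25), (20, 48), (20, 42), (20, 39), (20, 39), (20, 39)],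
  [(0, 0), (0, 0), (0, 0), (0, 0), (0, 0), (162, 169), (0, 0), (0, 0), (0, 0), (0, 0), (0, 0), (0, 0), (77, 147), (0, 0), (0, 0), (0, 0), (0, 0), (0, 0), (70, 92), (69, 91), (68, 90), (67, 89), (65, 87), (64, 86), (63, 85), (61, 83), (60, 82), (58, 80), (0, 0), (0, 0), (0, 0), (0, 0), (0, 0), (0, 0), (0, 0), (0, 0), (0, 0), (0, 0), (35, 83), (34, 82), (32, 80), (29, 80), (25, 80), (0, 0), (35, 61), (34, 60), (32, 58), (29, 58), (25, 58), (13, 20), (0, 0), (29, 32), (25, 32), (25, 29), (25, 29), (25, 29)],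
  [(0, 0), (0, 0), (0, 0), (0, 0), (163, 169), (0, 0), (0, 0), (0, 0), (0, 0), (0, 0), (0, 0), (0, 0), (76, 142), (0, 0), (70, 97), (69, 96), (68, 95), (67, 94), (0, 0), (0, 0), (0, 0), (0, 0), (55, 87), (54, 86), (53, 85), (51, 83), (50, 82), (48, 80), (0, 0), (0, 0), (0, 0), (0, 0), (0, 0), (0, 0), (35, 83), (34, 82), (32, 80), (29, 80), (0, 0), (0, 0), (0, 0), (0, 0), (20, 80), (0, 0), (35, 51), (34, 50), (32, 48), (29, 48), (13, 25), (20, 48), (29, 32), (0, 0), (20, 32), (20, 29), (20, 29), (20, 29)],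
  [(0, 0), (0, 0), (0, 0), (164, 169), (0, 0), (0, 0), (0, 0), (0, 0), (0, 0), (0, 0), (0, 0), (0, 0), (75, 141), (70, 98), (0, 0), (65, 96), (64, 95), (63, 94), (0, 0), (55, 91), (54, 90), (53, 89), (0, 0), (0, 0), (0, 0), (45, 83), (44, 82), (42, 80), (0, 0), (0, 0), (0, 0), (35, 83), (34, 82), (32, 80), (0, 0), (0, 0), (0, 0), (25, 80), (0, 0), (0, 0), (0, 0), (20, 80), (0, 0), (0, 0), (35, 45), (34, 44), (32, 42), (13, 29), (25, 42), (20, 42), (25, 32), (20, 32), (0, 0), (20, 25), (20, 25), (20, 25)],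
  [(0, 0), (0, 0), (165, 170), (0, 0), (0, 0), (0, 0), (0, 0), (0, 0), (0, 0), (0, 0), (0, 0), (0, 0), (74, 141), (69, 98), (65, 97), (0, 0), (61, 95), (60, 94), (55, 92), (0, 0), (51, 90), (50, 89), (0, 0), (45, 86), (44, 85), (0, 0), (0, 0), (39, 80), (0, 0), (35, 86), (34, 85), (0, 0), (0, 0), (29, 80), (0, 0), (0, 0), (25, 80), (0, 0), (0, 0), (0, 0), (20, 80), (0, 0), (0, 0), (0, 0), (35, 45), (34, 44), (13, 32), (29, 39), (25, 39), (20, 39), (25, 29), (20, 29), (20, 25), (0, 0), (20, 25), (20, 25)],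
  [(0, 0), (166, 171), (0, 0), (0, 0), (0, 0), (0, 0), (0, 0), (0, 0), (0, 0), (0, 0), (0, 0), (0, 0), (73, 141), (68, 98), (64, 97), (61, 96), (0, 0), (58, 94), (54, 92), (51, 91), (0, 0), (48, 89), (45, 87), (0, 0), (42, 85), (0, 0), (39, 82), (0, 0), (35, 87), (0, 0), (32, 85), (0, 0), (29, 82), (0, 0), (0, 0), (25, 82), (0, 0), (0, 0), (0, 0), (20, 82), (0, 0), (0, 0), (0, 0), (0, 0), (35, 45), (13, 34), (32, 42), (29, 39), (25, 39), (20, 39), (25, 29), (20, 29), (20, 25), (20, 25), (0, 0), (20, 25)],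
  [(167, 172), (0, 0), (0, 0), (0, 0), (0, 0), (0, 0), (0, 0), (0, 0), (0, 0), (0, 0), (0, 0), (0, 0), (72, 141), (67, 98), (63, 97), (60, 96), (58, 95), (0, 0), (53, 92), (50, 91), (48, 90), (0, 0), (44, 87), (42, 86), (0, 0), (39, 83), (0, 0), (0, 0), (34, 87), (32, 86), (0, 0), (29, 83), (0, 0), (0, 0), (25, 83), (0, 0), (0, 0), (0, 0), (20, 83), (0, 0), (0, 0), (0, 0), (0, 0), (0, 0), (13, 35), (34, 44), (32, 42), (29, 39), (25, 39), (20, 39), (25, 29), (20, 29), (20, 25), (20, 25), (20, 25), (0, 0)],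
  [(0, 0), (0, 0), (0, 0), (0, 0), (0, 0), (0, 0), (135, 136), (104, 130), (103, 109), (102, 108), (101, 107), (100, 106), (0, 0), (0, 0), (0, 0), (0, 0), (0, 0), (0, 0), (0, 0), (0, 0), (0, 0), (0, 0), (0, 0), (0, 0), (0, 0), (0, 0), (0, 0), (0, 0), (55, 65), (54, 64), (53, 63), (51, 61), (50, 60), (48, 58), (45, 61), (44, 60), (42, 58), (39, 58), (45, 51), (44, 50), (42, 48), (39, 48), (39, 42), (20, 25), (0, 0), (0, 0), (0, 0), (0, 0), (0, 0), (0, 0), (13, 58), (13, 48), (13, 42), (13, 39), (13, 39), (13, 39)],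
  [(0, 0), (0, 0), (0, 0), (0, 0), (135, 147), (104, 142), (0, 0), (0, 0), (92, 97), (91, 96), (90, 95), (89, 94), (0, 0), (0, 0), (0, 0), (0, 0), (0, 0), (0, 0), (0, 0), (0, 0), (0, 0), (0, 0), (55, 65), (54, 64), (53, 63), (51, 61), (50, 60), (48, 58), (0, 0), (0, 0), (0, 0), (0, 0), (0, 0), (0, 0), (35, 61), (34, 60), (32, 58), (29, 58), (35, 51), (34, 50), (32, 48), (29, 48), (20, 25), (29, 32), (0, 0), (0, 0), (0, 0), (0, 0), (13, 58), (13, 48), (0, 0), (0, 0), (13, 32), (13, 29), (13, 29), (13, 29)],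
  [(0, 0), (0, 0), (0, 0), (136, 147), (0, 0), (103, 141), (0, 0), (92, 98), (0, 0), (87, 96), (86, 95), (85, 94), (0, 0), (0, 0), (0, 0), (0, 0), (0, 0), (0, 0), (0, 0), (55, 69), (54, 68), (53, 67), (0, 0), (0, 0), (0, 0), (45, 61), (44, 60), (42, 58), (0, 0), (0, 0), (0, 0), (35, 61), (34, 60), (32, 58), (0, 0), (0, 0), (0, 0), (25, 58), (35, 45), (34, 44), (32, 42), (20, 29), (25, 42), (25, 32), (0, 0), (0, 0), (0, 0), (13, 58), (0, 0), (13, 42), (0, 0), (13, 32), (0, 0), (13, 25), (13, 25), (13, 25)],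
  [(0, 0), (0, 0), (137, 148), (0, 0), (0, 0), (102, 141), (0, 0), (91, 98), (87, 97), (0, 0), (83, 95), (82, 94), (0, 0), (0, 0), (0, 0), (0, 0), (0, 0), (0, 0), (55, 70), (0, 0), (51, 68), (50, 67), (0, 0), (45, 64), (44, 63), (0, 0), (0, 0), (39, 58), (0, 0), (35, 64), (34, 63), (0, 0), (0, 0), (29, 58), (0, 0), (0, 0), (25, 58), (0, 0), (35, 45), (34, 44), (20, 32), (29, 39), (25, 39), (25, 29), (0, 0), (0, 0), (13, 58), (0, 0), (0, 0), (13, 39), (0, 0), (13, 29), (13, 25), (0, 0), (13, 25), (13, 25)],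
  [(0, 0), (138, 149), (0, 0), (0, 0), (0, 0), (101, 141), (0, 0), (90, 98), (86, 97), (83, 96), (0, 0), (80, 94), (0, 0), (0, 0), (0, 0), (0, 0), (0, 0), (0, 0), (54, 70), (51, 69), (0, 0), (48, 67), (45, 65), (0, 0), (42, 63), (0, 0), (39, 60), (0, 0), (35, 65), (0, 0), (32, 63), (0, 0), (29, 60), (0, 0), (0, 0), (25, 60), (0, 0), (0, 0), (35, 45), (20, 34), (32, 42), (29, 39), (25, 39), (25, 29), (0, 0), (13, 60), (0, 0), (0, 0), (0, 0), (13, 39), (0, 0), (13, 29), (13, 25), (13, 25), (0, 0), (13, 25)],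
  [(139, 150), (0, 0), (0, 0), (0, 0), (0, 0), (100, 141), (0, 0), (89, 98), (85, 97), (82, 96), (80, 95), (0, 0), (0, 0), (0, 0), (0, 0), (0, 0), (0, 0), (0, 0), (53, 70), (50, 69), (48, 68), (0, 0), (44, 65), (42, 64), (0, 0), (39, 61), (0, 0), (0, 0), (34, 65), (32, 64), (0, 0), (29, 61), (0, 0), (0, 0), (25, 61), (0, 0), (0, 0), (0, 0), (20, 35), (34, 44), (32, 42), (29, 39), (25, 39), (25, 29), (13, 61), (0, 0), (0, 0), (0, 0), (0, 0), (13, 39), (0, 0), (13, 29), (13, 25), (13, 25), (13, 25), (0, 0)],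
  [(0, 0), (0, 0), (0, 0), (130, 142), (109, 141), (0, 0), (97, 98), (0, 0), (0, 0), (87, 91), (86, 90), (85, 89), (0, 0), (0, 0), (0, 0), (65, 69), (64, 68), (63, 67), (0, 0), (0, 0), (0, 0), (0, 0), (0, 0), (0, 0), (0, 0), (45, 51), (44, 50), (42, 48), (0, 0), (0, 0), (0, 0), (35, 51), (34, 50), (32, 48), (35, 45), (34, 44), (32, 42), (25, 29), (0, 0), (0, 0), (0, 0), (20, 48), (20, 42), (20, 32), (0, 0), (0, 0), (0, 0), (13, 48), (13, 42), (0, 0), (13, 32), (0, 0), (0, 0), (13, 20), (13, 20), (13, 20)],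
  [(0, 0), (0, 0), (131, 143), (0, 0), (108, 141), (0, 0), (96, 98), (0, 0), (87, 92), (0, 0), (83, 90), (82, 89), (0, 0), (0, 0), (65, 70), (0, 0), (61, 68), (60, 67), (0, 0), (0, 0), (0, 0), (0, 0), (0, 0), (45, 54), (44, 53), (0, 0), (0, 0), (39, 48), (0, 0), (35, 54), (34, 53), (0, 0), (0, 0), (29, 48), (35, 45), (34, 44), (25, 32), (29, 39), (0, 0), (0, 0), (20, 48), (0, 0), (20, 39), (20, 29), (0, 0), (0, 0), (13, 48), (0, 0), (13, 39), (0, 0), (13, 29), (0, 0), (13, 20), (0, 0), (13, 20), (13, 20)],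
  [(0, 0), (132, 144), (0, 0), (0, 0), (107, 141), (0, 0), (95, 98), (0, 0), (86, 92), (83, 91), (0, 0), (80, 89), (0, 0), (0, 0), (64, 70), (61, 69), (0, 0), (58, 67), (0, 0), (0, 0), (0, 0), (0, 0), (45, 55), (0, 0), (42, 53), (0, 0), (39, 50), (0, 0), (35, 55), (0, 0), (32, 53), (0, 0), (29, 50), (0, 0), (35, 45), (25, 34), (32, 42), (29, 39), (0, 0), (20, 50), (0, 0), (0, 0), (20, 39), (20, 29), (0, 0), (13, 50), (0, 0), (0, 0), (13, 39), (0, 0), (13, 29), (0, 0), (13, 20), (13, 20), (0, 0), (13, 20)],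
  [(133, 145), (0, 0), (0, 0), (0, 0), (106, 141), (0, 0), (94, 98), (0, 0), (85, 92), (82, 91), (80, 90), (0, 0), (0, 0), (0, 0), (63, 70), (60, 69), (58, 68), (0, 0), (0, 0), (0, 0), (0, 0), (0, 0), (44, 55), (42, 54), (0, 0), (39, 51), (0, 0), (0, 0), (34, 55), (32, 54), (0, 0), (29, 51), (0, 0), (0, 0), (25, 35), (34, 44), (32, 42), (29, 39), (20, 51), (0, 0), (0, 0), (0, 0), (20, 39), (20, 29), (13, 51), (0, 0), (0, 0), (0, 0), (13, 39), (0, 0), (13, 29), (0, 0), (13, 20), (13, 20), (13, 20), (0, 0)],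
  [(0, 0), (0, 0), (126, 143), (113, 142), (0, 0), (0, 0), (96, 97), (91, 92), (0, 0), (0, 0), (83, 86), (82, 85), (0, 0), (69, 70), (0, 0), (0, 0), (61, 64), (60, 63), (0, 0), (0, 0), (51, 54), (50, 53), (0, 0), (0, 0), (0, 0), (0, 0), (0, 0), (39, 42), (0, 0), (35, 54), (34, 53), (35, 51), (34, 50), (29, 32), (0, 0), (0, 0), (25, 42), (25, 39), (0, 0), (0, 0), (20, 42), (20, 39), (0, 0), (20, 25), (0, 0), (0, 0), (13, 42), (13, 39), (0, 0), (0, 0), (13, 25), (13, 20), (0, 0), (0, 0), (13, 20), (13, 20)],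
  [(0, 0), (127, 144), (0, 0), (112, 142), (0, 0), (0, 0), (95, 97), (90, 92), (0, 0), (83, 87), (0, 0), (80, 85), (0, 0), (68, 70), (0, 0), (61, 65), (0, 0), (58, 63), (0, 0), (51, 55), (0, 0), (48, 53), (0, 0), (0, 0), (0, 0), (0, 0), (39, 44), (0, 0), (35, 55), (0, 0), (32, 53), (35, 51), (29, 34), (32, 48), (0, 0), (25, 44), (0, 0), (25, 39), (0, 0), (20, 44), (0, 0), (20, 39), (0, 0), (20, 25), (0, 0), (13, 44), (0, 0), (13, 39), (0, 0), (0, 0), (13, 25), (13, 20), (0, 0), (13, 20), (0, 0), (13, 20)],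
  [(128, 145), (0, 0), (0, 0), (111, 142), (0, 0), (0, 0), (94, 97), (89, 92), (0, 0), (82, 87), (80, 86), (0, 0), (0, 0), (67, 70), (0, 0), (60, 65), (58, 64), (0, 0), (0, 0), (50, 55), (48, 54), (0, 0), (0, 0), (0, 0), (0, 0), (39, 45), (0, 0), (0, 0), (34, 55), (32, 54), (0, 0), (29, 35), (34, 50), (32, 48), (25, 45), (0, 0), (0, 0), (25, 39), (20, 45), (0, 0), (0, 0), (20, 39), (0, 0), (20, 25), (13, 45), (0, 0), (0, 0), (13, 39), (0, 0), (0, 0), (13, 25), (13, 20), (0, 0), (13, 20), (13, 20), (0, 0)],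
  [(0, 0), (123, 144), (116, 143), (0, 0), (0, 0), (0, 0), (95, 96), (90, 91), (86, 87), (0, 0), (0, 0), (80, 82), (0, 0), (68, 69), (64, 65), (0, 0), (0, 0), (58, 60), (54, 55), (0, 0), (0, 0), (48, 50), (0, 0), (0, 0), (42, 44), (0, 0), (0, 0), (0, 0), (35, 55), (35, 54), (32, 34), (0, 0), (29, 50), (29, 48), (0, 0), (25, 44), (25, 42), (0, 0), (0, 0), (20, 44), (20, 42), (0, 0), (0, 0), (20, 25), (0, 0), (13, 44), (13, 42), (0, 0), (0, 0), (0, 0), (13, 25), (13, 20), (13, 20), (0, 0), (0, 0), (13, 20)],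
  [(124, 145), (0, 0), (115, 143), (0, 0), (0, 0), (0, 0), (94, 96), (89, 91), (85, 87), (0, 0), (80, 83), (0, 0), (0, 0), (67, 69), (63, 65), (0, 0), (58, 61), (0, 0), (53, 55), (0, 0), (48, 51), (0, 0), (0, 0), (42, 45), (0, 0), (0, 0), (0, 0), (0, 0), (34, 55), (32, 35), (34, 53), (29, 51), (0, 0), (29, 48), (25, 45), (0, 0), (25, 42), (0, 0), (20, 45), (0, 0), (20, 42), (0, 0), (0, 0), (20, 25), (13, 45), (0, 0), (13, 42), (0, 0), (0, 0), (0, 0), (13, 25), (13, 20), (13, 20), (0, 0), (13, 20), (0, 0)],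
  [(121, 145), (118, 144), (0, 0), (0, 0), (0, 0), (0, 0), (94, 95), (89, 90), (85, 86), (82, 83), (0, 0), (0, 0), (0, 0), (67, 68), (63, 64), (60, 61), (0, 0), (0, 0), (53, 54), (50, 51), (0, 0), (0, 0), (44, 45), (0, 0), (0, 0), (0, 0), (0, 0), (0, 0), (34, 35), (32, 54), (32, 53), (29, 51), (29, 50), (0, 0), (25, 45), (25, 44), (0, 0), (0, 0), (20, 45), (20, 44), (0, 0), (0, 0), (0, 0), (20, 25), (13, 45), (13, 44), (0, 0), (0, 0), (0, 0), (0, 0), (13, 25), (13, 20), (13, 20), (13, 20), (0, 0), (0, 0)],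
  [(0, 0), (0, 0), (126, 131), (113, 130), (108, 109), (102, 103), (0, 0), (0, 0), (0, 0), (0, 0), (83, 86), (82, 85), (74, 75), (0, 0), (0, 0), (0, 0), (61, 64), (60, 63), (0, 0), (0, 0), (51, 54), (50, 53), (0, 0), (45, 54), (44, 53), (45, 51), (44, 50), (39, 42), (0, 0), (0, 0), (0, 0), (0, 0), (0, 0), (29, 32), (0, 0), (0, 0), (25, 32), (25, 29), (0, 0), (0, 0), (20, 32), (20, 29), (20, 25), (0, 0), (0, 0), (0, 0), (13, 32), (13, 29), (13, 25), (13, 20), (0, 0), (0, 0), (0, 0), (0, 0), (13, 20), (13, 20)],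
  [(0, 0), (127, 132), (0, 0), (112, 130), (107, 109), (101, 103), (0, 0), (0, 0), (0, 0), (83, 87), (0, 0), (80, 85), (73, 75), (0, 0), (0, 0), (61, 65), (0, 0), (58, 63), (0, 0), (51, 55), (0, 0), (48, 53), (45, 55), (0, 0), (42, 53), (45, 51), (39, 44), (42, 48), (0, 0), (0, 0), (0, 0), (0, 0), (29, 34), (0, 0), (0, 0), (25, 34), (0, 0), (25, 29), (0, 0), (20, 34), (0, 0), (20, 29), (20, 25), (0, 0), (0, 0), (13, 34), (0, 0), (13, 29), (13, 25), (13, 20), (0, 0), (0, 0), (0, 0), (13, 20), (0, 0), (13, 20)],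
  [(128, 133), (0, 0), (0, 0), (111, 130), (106, 109), (100, 103), (0, 0), (0, 0), (0, 0), (82, 87), (80, 86), (0, 0), (72, 75), (0, 0), (0, 0), (60, 65), (58, 64), (0, 0), (0, 0), (50, 55), (48, 54), (0, 0), (44, 55), (42, 54), (0, 0), (39, 45), (44, 50), (42, 48), (0, 0), (0, 0), (0, 0), (29, 35), (0, 0), (0, 0), (25, 35), (0, 0), (0, 0), (25, 29), (20, 35), (0, 0), (0, 0), (20, 29), (20, 25), (0, 0), (13, 35), (0, 0), (0, 0), (13, 29), (13, 25), (13, 20), (0, 0), (0, 0), (0, 0), (13, 20), (13, 20), (0, 0)],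
  [(0, 0), (123, 132), (116, 131), (0, 0), (107, 108), (101, 102), (0, 0), (0, 0), (86, 87), (0, 0), (0, 0), (80, 82), (73, 74), (0, 0), (64, 65), (0, 0), (0, 0), (58, 60), (54, 55), (0, 0), (0, 0), (48, 50), (45, 55), (45, 54), (42, 44), (0, 0), (39, 50), (39, 48), (0, 0), (0, 0), (32, 34), (0, 0), (0, 0), (0, 0), (0, 0), (25, 34), (25, 32), (0, 0), (0, 0), (20, 34), (20, 32), (0, 0), (20, 25), (0, 0), (0, 0), (13, 34), (13, 32), (0, 0), (13, 25), (13, 20), (0, 0), (0, 0), (13, 20), (0, 0), (0, 0), (13, 20)],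
  [(124, 133), (0, 0), (115, 131), (0, 0), (106, 108), (100, 102), (0, 0), (0, 0), (85, 87), (0, 0), (80, 83), (0, 0), (72, 74), (0, 0), (63, 65), (0, 0), (58, 61), (0, 0), (53, 55), (0, 0), (48, 51), (0, 0), (44, 55), (42, 45), (44, 53), (39, 51), (0, 0), (39, 48), (0, 0), (32, 35), (0, 0), (0, 0), (0, 0), (0, 0), (25, 35), (0, 0), (25, 32), (0, 0), (20, 35), (0, 0), (20, 32), (0, 0), (20, 25), (0, 0), (13, 35), (0, 0), (13, 32), (0, 0), (13, 25), (13, 20), (0, 0), (0, 0), (13, 20), (0, 0), (13, 20), (0, 0)],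
  [(121, 133), (118, 132), (0, 0), (0, 0), (106, 107), (100, 101), (0, 0), (0, 0), (85, 86), (82, 83), (0, 0), (0, 0), (72, 73), (0, 0), (63, 64), (60, 61), (0, 0), (0, 0), (53, 54), (50, 51), (0, 0), (0, 0), (44, 45), (42, 54), (42, 53), (39, 51), (39, 50), (0, 0), (34, 35), (0, 0), (0, 0), (0, 0), (0, 0), (0, 0), (25, 35), (25, 34), (0, 0), (0, 0), (20, 35), (20, 34), (0, 0), (0, 0), (20, 25), (0, 0), (13, 35), (13, 34), (0, 0), (0, 0), (13, 25), (13, 20), (0, 0), (0, 0), (13, 20), (13, 20), (0, 0), (0, 0)],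
  [(0, 0), (123, 127), (116, 126), (112, 113), (0, 0), (101, 102), (0, 0), (90, 91), (0, 0), (0, 0), (0, 0), (80, 82), (73, 74), (68, 69), (0, 0), (0, 0), (0, 0), (58, 60), (54, 55), (51, 55), (51, 54), (48, 50), (0, 0), (0, 0), (42, 44), (0, 0), (39, 44), (39, 42), (0, 0), (0, 0), (32, 34), (0, 0), (29, 34), (29, 32), (0, 0), (0, 0), (0, 0), (0, 0), (0, 0), (20, 34), (20, 32), (20, 29), (0, 0), (0, 0), (0, 0), (13, 34), (13, 32), (13, 29), (0, 0), (13, 20), (0, 0), (13, 20), (0, 0), (0, 0), (0, 0), (13, 20)],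
  [(124, 128), (0, 0), (115, 126), (111, 113), (0, 0), (100, 102), (0, 0), (89, 91), (0, 0), (0, 0), (80, 83), (0, 0), (72, 74), (67, 69), (0, 0), (0, 0), (58, 61), (0, 0), (53, 55), (50, 55), (48, 51), (50, 53), (0, 0), (42, 45), (0, 0), (39, 45), (0, 0), (39, 42), (0, 0), (32, 35), (0, 0), (29, 35), (0, 0), (29, 32), (0, 0), (0, 0), (0, 0), (0, 0), (20, 35), (0, 0), (20, 32), (20, 29), (0, 0), (0, 0), (13, 35), (0, 0), (13, 32), (13, 29), (0, 0), (13, 20), (0, 0), (13, 20), (0, 0), (0, 0), (13, 20), (0, 0)],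
  [(121, 128), (118, 127), (0, 0), (111, 112), (0, 0), (100, 101), (0, 0), (89, 90), (0, 0), (82, 83), (0, 0), (0, 0), (72, 73), (67, 68), (0, 0), (60, 61), (0, 0), (0, 0), (53, 54), (50, 51), (48, 54), (48, 53), (44, 45), (0, 0), (0, 0), (39, 45), (39, 44), (0, 0), (34, 35), (0, 0), (0, 0), (29, 35), (29, 34), (0, 0), (0, 0), (0, 0), (0, 0), (0, 0), (20, 35), (20, 34), (0, 0), (20, 29), (0, 0), (0, 0), (13, 35), (13, 34), (0, 0), (13, 29), (0, 0), (13, 20), (0, 0), (13, 20), (0, 0), (13, 20), (0, 0), (0, 0)],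
  [(121, 124), (118, 123), (115, 116), (0, 0), (0, 0), (100, 101), (0, 0), (89, 90), (85, 86), (0, 0), (0, 0), (0, 0), (72, 73), (67, 68), (63, 64), (0, 0), (0, 0), (0, 0), (53, 54), (50, 51), (48, 51), (48, 50), (44, 45), (42, 45), (42, 44), (0, 0), (0, 0), (0, 0), (34, 35), (32, 35), (32, 34), (0, 0), (0, 0), (0, 0), (0, 0), (0, 0), (0, 0), (0, 0), (20, 35), (20, 34), (20, 32), (0, 0), (0, 0), (0, 0), (13, 35), (13, 34), (13, 32), (0, 0), (0, 0), (13, 20), (0, 0), (13, 20), (13, 20), (0, 0), (0, 0), (0, 0)],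
  [(0, 0), (123, 127), (116, 126), (112, 113), (107, 108), (0, 0), (95, 96), (0, 0), (0, 0), (0, 0), (0, 0), (80, 82), (73, 74), (68, 69), (64, 65), (61, 65), (61, 64), (58, 60), (0, 0), (0, 0), (0, 0), (48, 50), (0, 0), (0, 0), (42, 44), (0, 0), (39, 44), (39, 42), (0, 0), (0, 0), (32, 34), (0, 0), (29, 34), (29, 32), (0, 0), (25, 34), (25, 32), (25, 29), (0, 0), (0, 0), (0, 0), (0, 0), (0, 0), (0, 0), (0, 0), (13, 34), (13, 32), (13, 29), (13, 25), (0, 0), (13, 25), (0, 0), (0, 0), (0, 0), (0, 0), (13, 25)],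
  [(124, 128), (0, 0), (115, 126), (111, 113), (106, 108), (0, 0), (94, 96), (0, 0), (0, 0), (0, 0), (80, 83), (0, 0), (72, 74), (67, 69), (63, 65), (60, 65), (58, 61), (60, 63), (0, 0), (0, 0), (48, 51), (0, 0), (0, 0), (42, 45), (0, 0), (39, 45), (0, 0), (39, 42), (0, 0), (32, 35), (0, 0), (29, 35), (0, 0), (29, 32), (25, 35), (0, 0), (25, 32), (25, 29), (0, 0), (0, 0), (0, 0), (0, 0), (0, 0), (0, 0), (13, 35), (0, 0), (13, 32), (13, 29), (13, 25), (0, 0), (13, 25), (0, 0), (0, 0), (0, 0), (13, 25), (0, 0)],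
  [(121, 128), (118, 127), (0, 0), (111, 112), (106, 107), (0, 0), (94, 95), (0, 0), (0, 0), (82, 83), (0, 0), (0, 0), (72, 73), (67, 68), (63, 64), (60, 61), (58, 64), (58, 63), (0, 0), (50, 51), (0, 0), (0, 0), (44, 45), (0, 0), (0, 0), (39, 45), (39, 44), (0, 0), (34, 35), (0, 0), (0, 0), (29, 35), (29, 34), (0, 0), (25, 35), (25, 34), (0, 0), (25, 29), (0, 0), (0, 0), (0, 0), (0, 0), (0, 0), (0, 0), (13, 35), (13, 34), (0, 0), (13, 29), (13, 25), (0, 0), (13, 25), (0, 0), (0, 0), (13, 25), (0, 0), (0, 0)],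
  [(121, 124), (118, 123), (115, 116), (0, 0), (106, 107), (0, 0), (94, 95), (0, 0), (85, 86), (0, 0), (0, 0), (0, 0), (72, 73), (67, 68), (63, 64), (60, 61), (58, 61), (58, 60), (53, 54), (0, 0), (0, 0), (0, 0), (44, 45), (42, 45), (42, 44), (0, 0), (0, 0), (0, 0), (34, 35), (32, 35), (32, 34), (0, 0), (0, 0), (0, 0), (25, 35), (25, 34), (25, 32), (0, 0), (0, 0), (0, 0), (0, 0), (0, 0), (0, 0), (0, 0), (13, 35), (13, 34), (13, 32), (0, 0), (13, 25), (0, 0), (13, 25), (0, 0), (13, 25), (0, 0), (0, 0), (0, 0)],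
  [(121, 124), (118, 123), (115, 116), (111, 112), (0, 0), (0, 0), (94, 95), (89, 90), (0, 0), (0, 0), (0, 0), (0, 0), (72, 73), (67, 68), (63, 64), (60, 61), (58, 61), (58, 60), (53, 54), (50, 51), (48, 51), (48, 50), (0, 0), (0, 0), (0, 0), (0, 0), (0, 0), (0, 0), (34, 35), (32, 35), (32, 34), (29, 35), (29, 34), (29, 32), (0, 0), (0, 0), (0, 0), (0, 0), (0, 0), (0, 0), (0, 0), (0, 0), (0, 0), (0, 0), (13, 35), (13, 34), (13, 32), (13, 29), (0, 0), (0, 0), (13, 29), (13, 29), (0, 0), (0, 0), (0, 0), (0, 0)],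
  [(121, 124), (118, 123), (115, 116), (111, 112), (106, 107), (100, 101), (0, 0), (0, 0), (0, 0), (0, 0), (0, 0), (0, 0), (72, 73), (67, 68), (63, 64), (60, 61), (58, 61), (58, 60), (53, 54), (50, 51), (48, 51), (48, 50), (44, 45), (42, 45), (42, 44), (39, 45), (39, 44), (39, 42), (0, 0), (0, 0), (0, 0), (0, 0), (0, 0), (0, 0), (0, 0), (0, 0), (0, 0), (0, 0), (0, 0), (0, 0), (0, 0), (0, 0), (0, 0), (0, 0), (13, 45), (13, 44), (13, 42), (13, 39), (13, 39), (13, 39), (0, 0), (0, 0), (0, 0), (0, 0), (0, 0), (0, 0)],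
  [(0, 0), (123, 127), (116, 126), (112, 113), (107, 108), (101, 102), (95, 96), (90, 91), (86, 87), (83, 87), (83, 86), (80, 82), (0, 0), (0, 0), (0, 0), (0, 0), (0, 0), (58, 60), (0, 0), (0, 0), (0, 0), (48, 50), (0, 0), (0, 0), (42, 44), (0, 0), (39, 44), (39, 42), (0, 0), (0, 0), (32, 34), (0, 0), (29, 34), (29, 32), (0, 0), (25, 34), (25, 32), (25, 29), (0, 0), (20, 34), (20, 32), (20, 29), (20, 25), (20, 25), (0, 0), (0, 0), (0, 0), (0, 0), (0, 0), (0, 0), (0, 0), (0, 0), (0, 0), (0, 0), (0, 0), (20, 25)],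
  [(124, 128), (0, 0), (115, 126), (111, 113), (106, 108), (100, 102), (94, 96), (89, 91), (85, 87), (82, 87), (80, 83), (82, 85), (0, 0), (0, 0), (0, 0), (0, 0), (58, 61), (0, 0), (0, 0), (0, 0), (48, 51), (0, 0), (0, 0), (42, 45), (0, 0), (39, 45), (0, 0), (39, 42), (0, 0), (32, 35), (0, 0), (29, 35), (0, 0), (29, 32), (25, 35), (0, 0), (25, 32), (25, 29), (20, 35), (0, 0), (20, 32), (20, 29), (20, 25), (20, 25), (0, 0), (0, 0), (0, 0), (0, 0), (0, 0), (0, 0), (0, 0), (0, 0), (0, 0), (0, 0), (20, 25), (0, 0)],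
  [(121, 128), (118, 127), (0, 0), (111, 112), (106, 107), (100, 101), (94, 95), (89, 90), (85, 86), (82, 83), (80, 86), (80, 85), (0, 0), (0, 0), (0, 0), (60, 61), (0, 0), (0, 0), (0, 0), (50, 51), (0, 0), (0, 0), (44, 45), (0, 0), (0, 0), (39, 45), (39, 44), (0, 0), (34, 35), (0, 0), (0, 0), (29, 35), (29, 34), (0, 0), (25, 35), (25, 34), (0, 0), (25, 29), (20, 35), (20, 34), (0, 0), (20, 29), (20, 25), (20, 25), (0, 0), (0, 0), (0, 0), (0, 0), (0, 0), (0, 0), (0, 0), (0, 0), (0, 0), (20, 25), (0, 0), (0, 0)],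
  [(121, 124), (118, 123), (115, 116), (0, 0), (106, 107), (100, 101), (94, 95), (89, 90), (85, 86), (82, 83), (80, 83), (80, 82), (0, 0), (0, 0), (63, 64), (0, 0), (0, 0), (0, 0), (53, 54), (0, 0), (0, 0), (0, 0), (44, 45), (42, 45), (42, 44), (0, 0), (0, 0), (0, 0), (34, 35), (32, 35), (32, 34), (0, 0), (0, 0), (0, 0), (25, 35), (25, 34), (25, 32), (0, 0), (20, 35), (20, 34), (20, 32), (0, 0), (20, 25), (20, 25), (0, 0), (0, 0), (0, 0), (0, 0), (0, 0), (0, 0), (0, 0), (0, 0), (20, 25), (0, 0), (0, 0), (0, 0)],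
  [(121, 124), (118, 123), (115, 116), (111, 112), (0, 0), (100, 101), (94, 95), (89, 90), (85, 86), (82, 83), (80, 83), (80, 82), (0, 0), (67, 68), (0, 0), (0, 0), (0, 0), (0, 0), (53, 54), (50, 51), (48, 51), (48, 50), (0, 0), (0, 0), (0, 0), (0, 0), (0, 0), (0, 0), (34, 35), (32, 35), (32, 34), (29, 35), (29, 34), (29, 32), (0, 0), (0, 0), (0, 0), (0, 0), (20, 35), (20, 34), (20, 32), (20, 29), (0, 0), (20, 29), (0, 0), (0, 0), (0, 0), (0, 0), (0, 0), (0, 0), (0, 0), (20, 29), (0, 0), (0, 0), (0, 0), (0, 0)],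
  [(121, 124), (118, 123), (115, 116), (111, 112), (106, 107), (0, 0), (94, 95), (89, 90), (85, 86), (82, 83), (80, 83), (80, 82), (0, 0), (67, 68), (63, 64), (60, 61), (58, 61), (58, 60), (0, 0), (0, 0), (0, 0), (0, 0), (0, 0), (0, 0), (0, 0), (0, 0), (0, 0), (0, 0), (34, 35), (32, 35), (32, 34), (29, 35), (29, 34), (29, 32), (25, 35), (25, 34), (25, 32), (25, 29), (0, 0), (0, 0), (0, 0), (0, 0), (0, 0), (25, 29), (0, 0), (0, 0), (0, 0), (0, 0), (0, 0), (0, 0), (25, 29), (0, 0), (0, 0), (0, 0), (0, 0), (0, 0)],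
  [(121, 124), (118, 123), (115, 116), (111, 112), (106, 107), (100, 101), (0, 0), (89, 90), (85, 86), (82, 83), (80, 83), (80, 82), (72, 73), (0, 0), (0, 0), (0, 0), (0, 0), (0, 0), (53, 54), (50, 51), (48, 51), (48, 50), (44, 45), (42, 45), (42, 44), (39, 45), (39, 44), (39, 42), (0, 0), (0, 0), (0, 0), (0, 0), (0, 0), (0, 0), (0, 0), (0, 0), (0, 0), (0, 0), (20, 45), (20, 44), (20, 42), (20, 39), (20, 39), (0, 0), (0, 0), (0, 0), (0, 0), (0, 0), (0, 0), (20, 39), (0, 0), (0, 0), (0, 0), (0, 0), (0, 0), (0, 0)],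
  [(121, 124), (118, 123), (115, 116), (111, 112), (106, 107), (100, 101), (94, 95), (0, 0), (85, 86), (82, 83), (80, 83), (80, 82), (72, 73), (0, 0), (63, 64), (60, 61), (58, 61), (58, 60), (0, 0), (0, 0), (0, 0), (0, 0), (44, 45), (42, 45), (42, 44), (39, 45), (39, 44), (39, 42), (0, 0), (0, 0), (0, 0), (0, 0), (0, 0), (0, 0), (25, 45), (25, 44), (25, 42), (25, 39), (0, 0), (0, 0), (0, 0), (0, 0), (25, 39), (0, 0), (0, 0), (0, 0), (0, 0), (0, 0), (25, 39), (0, 0), (0, 0), (0, 0), (0, 0), (0, 0), (0, 0), (0, 0)],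
  [(121, 124), (118, 123), (115, 116), (111, 112), (106, 107), (100, 101), (94, 95), (89, 90), (0, 0), (82, 83), (80, 83), (80, 82), (72, 73), (67, 68), (0, 0), (60, 61), (58, 61), (58, 60), (0, 0), (50, 51), (48, 51), (48, 50), (0, 0), (0, 0), (0, 0), (39, 51), (39, 50), (39, 48), (0, 0), (0, 0), (0, 0), (29, 51), (29, 50), (29, 48), (0, 0), (0, 0), (0, 0), (29, 39), (0, 0), (0, 0), (0, 0), (29, 39), (0, 0), (0, 0), (0, 0), (0, 0), (0, 0), (29, 39), (0, 0), (0, 0), (0, 0), (0, 0), (0, 0), (0, 0), (0, 0), (0, 0)],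
  [(121, 128), (118, 127), (115, 116), (111, 112), (106, 107), (100, 101), (94, 95), (89, 90), (85, 86), (0, 0), (80, 86), (80, 85), (72, 73), (67, 68), (63, 64), (0, 0), (58, 64), (58, 63), (53, 54), (0, 0), (48, 54), (48, 53), (0, 0), (42, 54), (42, 53), (0, 0), (0, 0), (42, 48), (0, 0), (32, 54), (32, 53), (0, 0), (0, 0), (32, 48), (0, 0), (0, 0), (32, 42), (0, 0), (0, 0), (0, 0), (32, 42), (0, 0), (0, 0), (0, 0), (0, 0), (0, 0), (32, 42), (0, 0), (0, 0), (0, 0), (0, 0), (0, 0), (0, 0), (0, 0), (0, 0), (0, 0)],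
  [(124, 128), (118, 123), (115, 126), (111, 113), (106, 108), (100, 102), (94, 96), (89, 91), (85, 87), (82, 87), (0, 0), (82, 85), (72, 74), (67, 69), (63, 65), (60, 65), (0, 0), (60, 63), (53, 55), (50, 55), (0, 0), (50, 53), (44, 55), (0, 0), (44, 53), (0, 0), (44, 50), (0, 0), (34, 55), (0, 0), (34, 53), (0, 0), (34, 50), (0, 0), (0, 0), (34, 44), (0, 0), (0, 0), (0, 0), (34, 44), (0, 0), (0, 0), (0, 0), (0, 0), (0, 0), (34, 44), (0, 0), (0, 0), (0, 0), (0, 0), (0, 0), (0, 0), (0, 0), (0, 0), (0, 0), (0, 0)],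
  [(121, 124), (123, 127), (116, 126), (112, 113), (107, 108), (101, 102), (95, 96), (90, 91), (86, 87), (83, 87), (83, 86), (0, 0), (73, 74), (68, 69), (64, 65), (61, 65), (61, 64), (0, 0), (54, 55), (51, 55), (51, 54), (0, 0), (45, 55), (45, 54), (0, 0), (45, 51), (0, 0), (0, 0), (35, 55), (35, 54), (0, 0), (35, 51), (0, 0), (0, 0), (35, 45), (0, 0), (0, 0), (0, 0), (35, 45), (0, 0), (0, 0), (0, 0), (0, 0), (0, 0), (35, 45), (0, 0), (0, 0), (0, 0), (0, 0), (0, 0), (0, 0), (0, 0), (0, 0), (0, 0), (0, 0), (0, 0)]]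

/-- The coordinate moved only along with the first one. -/
def lone0 : List ℕ := [55, 54, 53, 52, 51, 50, 49, 48, 47, 46, 45, 44, 43, 42, 41, 40, 39, 38, 37, 36, 35, 34, 33, 32, 31, 30, 29, 28, 27, 26, 25, 24, 23, 22, 21, 20, 19, 18, 17, 16, 15, 14, 13, 12, 11, 10, 9, 8, 7, 6, 5, 4, 3, 2, 1, 0]

end CfsgLib.RootChain.E8
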